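/-
Groups in which every maximal subgroup has prime index, and the auxiliary facts on power
actions used for Huppert's supersolvability criterion.
-/
import Mathlib
import Cfsg.Agent.Lib.Supersolvable.Basic
import Cfsg.Agent.Lib.CoprimeAction.Basic

set_option autoImplicit false
set_option linter.style.haveILetI false

open scoped commutatorElement

namespace CfsgLib.PSolvable

universe u

variable {G : Type u} [Group G] [Finite G]

omit [Finite G] in
/-- The hypothesis passes to quotients. -/
theorem maximal_prime_index_quotient (h : ∀ M : Subgroup G, IsCoatom M → M.index.Prime)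
    (N : Subgroup G) [N.Normal] :
    ∀ M : Subgroup (G ⧸ N), IsCoatom M → M.index.Prime := by
  intro M hM
  let q := QuotientGroup.mk' N
  have hq : Function.Surjective q := QuotientGroup.mk'_surjective N
  rw [← M.index_comap_of_surjective hq]
  refine h _ ⟨fun he => hM.1 ?_, fun L hL => ?_⟩
  · rw [← Subgroup.map_comap_eq_self_of_surjective hq M, he, Subgroup.map_top_of_surjective _ hq]
  · have hker : q.ker ≤ L := (MonoidHom.ker_le_comap q M).trans hL.le
    have hlt : M < L.map q := by
      rw [← Subgroup.comap_lt_comap_of_surjective hq, Subgroup.comap_map_eq_self hker]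
      exact hL
    rw [← Subgroup.comap_map_eq_self hker, hM.2 _ hlt, Subgroup.comap_top]

/-- The index of a subgroup containing the normalizer of a Sylow `p`-subgroup is `1` mod `p`. -/
theorem index_modEq_one_of_normalizer_le {p : ℕ} [Fact p.Prime] (P : Sylow p G) {M : Subgroup G}
    (hM : Subgroup.normalizer ((P : Subgroup G) : Set G) ≤ M) : M.index ≡ 1 [MOD p] := by
  let N := Subgroup.normalizer ((P : Subgroup G) : Set G)
  have hPM : (P : Subgroup G) ≤ M := Subgroup.le_normalizer.trans hM
  let Q : Sylow p M := P.subtype hPM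
  have hQN : Subgroup.normalizer (((Q : Sylow p M) : Subgroup M) : Set M) = N.subgroupOf M :=
    Subgroup.subgroupOf_normalizer_eq hPM |>.symm
  have h1 : Nat.card (Sylow p M) = N.relIndex M := by
    rw [Q.card_eq_index_normalizer]; exact congrArg Subgroup.index hQN
  have h2 : Nat.card (Sylow p G) = N.index := P.card_eq_index_normalizer
  have h3 := Subgroup.relIndex_mul_index hM
  rw [← h1, ← h2] at h3
  have a := card_sylow_modEq_one p M
  have b := card_sylow_modEq_one p G
  rw [← h3] at b
  exact ((a.mul_right M.index).symm.trans b).trans rfl |> fun h => by simpa using h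

/-- If every maximal subgroup has prime index, a Sylow subgroup for the largest prime is normal. -/
theorem normal_sylow_of_maximal_prime_index (h : ∀ M : Subgroup G, IsCoatom M → M.index.Prime)
    (p : ℕ) [hp : Fact p.Prime] (hmax : ∀ q : ℕ, q.Prime → q ∣ Nat.card G → q ≤ p)
    (P : Sylow p G) : (P : Subgroup G).Normal := by
  rw [← Subgroup.normalizer_eq_top_iff]
  by_contra hne
  obtain ⟨M, hM, hle⟩ := (eq_top_or_exists_le_coatom _).resolve_left hne
  have hq := h M hM
  have h1 := index_modEq_one_of_normalizer_le P hle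
  have hnd : ¬ p ∣ M.index := fun hd =>
    P.not_dvd_index (hd.trans (Subgroup.index_dvd_of_le (Subgroup.le_normalizer.trans hle)))
  have hlt : M.index < p := lt_of_le_of_ne (hmax _ hq M.index_dvd_card)
    (fun he => hnd (he ▸ dvd_rfl))
  rw [Nat.ModEq, Nat.mod_eq_of_lt hlt, Nat.one_mod_eq_one.2 hp.out.ne_one] at h1
  exact hq.ne_one h1

/-- If every maximal subgroup has prime index, the group is solvable. -/
theorem isSolvable_of_maximal_prime_index (h : ∀ M : Subgroup G, IsCoatom M → M.index.Prime) :
    Group.IsSolvable G := by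
  suffices ∀ (n : ℕ) (G : Type u) [Group G] [Finite G], Nat.card G = n →
      (∀ M : Subgroup G, IsCoatom M → M.index.Prime) → Group.IsSolvable G from this _ G rfl h
  intro n
  induction n using Nat.strong_induction_on with
  | _ n ih =>
    intro G _ _ hn h
    rcases subsingleton_or_nontrivial G with hs | hs
    · infer_instance
    obtain ⟨p, hp, hpd, hmax⟩ : ∃ p, p.Prime ∧ p ∣ Nat.card G ∧
        ∀ q : ℕ, q.Prime → q ∣ Nat.card G → q ≤ p := by
      have hne : (Nat.card G).primeFactors.Nonempty :=
        Nat.nonempty_primeFactors.mpr Finite.one_lt_card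
      obtain ⟨h1, h2, -⟩ := Nat.mem_primeFactors.mp ((Nat.card G).primeFactors.max'_mem hne)
      exact ⟨_, h1, h2, fun q hq hqd =>
        Finset.le_max' _ _ (Nat.mem_primeFactors.mpr ⟨hq, hqd, Nat.card_pos.ne'⟩)⟩
    haveI := Fact.mk hp
    obtain ⟨P⟩ := (inferInstance : Nonempty (Sylow p G))
    haveI hPn := normal_sylow_of_maximal_prime_index h p hmax P
    haveI : Group.IsSolvable (G ⧸ (P : Subgroup G)) :=
      ih _ (hn ▸ CfsgLib.Supersolvable.card_quotient_lt _ (P.ne_bot_of_dvd_card hpd)) _ rfl
        (maximal_prime_index_quotient h _)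
    haveI : Group.IsNilpotent (P : Subgroup G) := P.isPGroup'.isNilpotent
    exact Group.isSolvable_of_ker_le_range (P : Subgroup G).subtype
      (QuotientGroup.mk' (P : Subgroup G)) (by rw [QuotientGroup.ker_mk', Subgroup.range_subtype])

omit [Finite G] in
theorem conj_power_cases {C : Subgroup G} [C.Normal] [Finite C] {p : ℕ} [hp : Fact p.Prime]
    (hC : Nat.card C ∣ p) :
    (∀ x : G, x ^ (p - 1) ∈ Subgroup.centralizer (C : Set G)) ∧
      ∀ x y : G, ⁅x, y⁆ ∈ Subgroup.centralizer (C : Set G) := by
  haveI : IsCyclic C := by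
    rcases (Nat.dvd_prime hp.out).1 hC with h | h
    · haveI : Subsingleton C := (Nat.card_eq_one_iff_unique.1 h).1
      infer_instance
    · exact isCyclic_of_prime_card h
  let φ : G →* MulAut C := MulAut.conjNormal
  have hcent : ∀ g : G, φ g = 1 → g ∈ Subgroup.centralizer (C : Set G) := fun g hg => by
    refine Subgroup.mem_centralizer_iff.2 fun c hc => ?_
    have h1 : ((φ g ⟨c, hc⟩ : C) : G) = c := by rw [hg]; rfl
    rw [MulAut.conjNormal_apply] at h1
    calc c * g = g * c * g⁻¹ * g := by rw [h1]
      _ = g * c := by group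
  let e := IsCyclic.mulAutMulEquiv C
  refine ⟨fun x => hcent _ ?_, fun x y => hcent _ ?_⟩ <;> apply e.injective
  · rw [map_pow, map_pow, map_one]
    have hd : Nat.card (ZMod (Nat.card C))ˣ ∣ p - 1 := by
      haveI : NeZero (Nat.card C) := ⟨Nat.card_pos.ne'⟩
      rw [Nat.card_eq_fintype_card, ZMod.card_units_eq_totient]
      rcases (Nat.dvd_prime hp.out).1 hC with h | h
      · rw [h, Nat.totient_one]; exact one_dvd _
      · rw [h, Nat.totient_prime hp.out]
    obtain ⟨k, hk⟩ := hd
    rw [hk, pow_mul, pow_card_eq_one', one_pow]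
  · rw [map_commutatorElement, map_commutatorElement, map_one, commutatorElement_eq_one_iff_mul_comm]
    exact mul_comm _ _

/-- In a supersolvable group, `p'`-elements fixing every factor of order `p` centralize each normal
subgroup of exponent `p`. -/
theorem mem_centralizer_of_supersolvable (hG : Cfsg.IsSupersolvable G) {p : ℕ} [hp : Fact p.Prime]
    (V : Subgroup G) [hVn : V.Normal] (hV : ∀ v ∈ V, v ^ p = 1) {y : G}
    (hy : (orderOf y).Coprime p)
    (hfac : ∀ (A : Subgroup G) [A.Normal] (C : Subgroup (G ⧸ A)) [C.Normal], Nat.card C ∣ p →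
      (y : G ⧸ A) ∈ Subgroup.centralizer (C : Set (G ⧸ A))) :
    y ∈ Subgroup.centralizer (V : Set G) := by
  obtain ⟨n, D, h0, h1, hn, hs⟩ := hG
  have hVp : IsPGroup p V := fun v => ⟨1, Subtype.ext (by simpa using hV v v.2)⟩
  suffices ∀ i, Subgroup.zpowers y ≤ Subgroup.centralizer ((V ⊓ D i : Subgroup G) : Set G) by
    have h2 := this (Fin.last n)
    rw [h1, inf_top_eq] at h2
    exact h2 (Subgroup.mem_zpowers y)
  intro i
  induction i using Fin.induction with
  | zero =>
    intro b _
    rw [h0, inf_bot_eq]
    refine Subgroup.mem_centralizer_iff.2 fun c hc => ?_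
    rw [SetLike.mem_coe, Subgroup.mem_bot] at hc
    rw [hc, one_mul, mul_one]
  | succ i ih =>
    obtain ⟨g, hg⟩ := hs i
    haveI := hn i.castSucc
    haveI := hn i.succ
    obtain ⟨w, hw, he⟩ := CfsgLib.Supersolvable.exists_generator_step (K := V) g hg
    let A := V ⊓ D i.castSucc
    let q := QuotientGroup.mk' A
    let C := (V ⊓ D i.succ).map q
    haveI : C.Normal := Subgroup.Normal.map inferInstance q (QuotientGroup.mk'_surjective A)
    have hC : C = Subgroup.zpowers (q w) := by
      simp only [C]
      rw [he, Subgroup.map_sup, MonoidHom.map_zpowers, QuotientGroup.map_mk'_self, bot_sup_eq]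
    have hcard : Nat.card C ∣ p := by
      rw [hC, Nat.card_zpowers]
      refine orderOf_dvd_of_pow_eq_one ?_
      rw [← map_pow, hV w hw.1, map_one]
    refine CfsgLib.CoprimeAction.le_centralizer_of_series (N := A)
      (le_inf inf_le_left (inf_le_right.trans (hg ▸ le_sup_left))) ?_ ih ?_
    · obtain ⟨k, hk⟩ := IsPGroup.iff_card.1 (hVp.to_le (inf_le_left : A ≤ V))
      rw [Nat.card_zpowers, hk]
      exact hy.pow_right k
    · intro b hb v hv
      obtain ⟨m, rfl⟩ := Subgroup.mem_zpowers_iff.1 hb
      have hm : q (y ^ m) ∈ Subgroup.centralizer (C : Set (G ⧸ A)) := by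
        rw [map_zpow]; exact zpow_mem (hfac A C hcard) m
      have h2 : q v * q (y ^ m) = q (y ^ m) * q v :=
        Subgroup.mem_centralizer_iff.1 hm _ ⟨v, hv, rfl⟩
      refine (QuotientGroup.eq_one_iff _).1 ?_
      change q (v⁻¹ * (y ^ m * v * (y ^ m)⁻¹)) = 1
      rw [map_mul, map_mul, map_mul, map_inv, map_inv, ← h2]
      group

/-- An automorphism of order dividing `p - 1` of a nontrivial elementary abelian `p`-group has an
eigenvector. -/
theorem exists_eigenvector_of_pow_eq_one {p : ℕ} [hp : Fact p.Prime] {A : Type*} [CommGroup A]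
    (hexp : ∀ v : A, v ^ p = 1) (hne : ∃ v : A, v ≠ 1) (σ : MulAut A) (hσ : σ ^ (p - 1) = 1) :
    ∃ (v : A) (m : ℕ), v ≠ 1 ∧ σ v = v ^ m := by
  letI : Module (ZMod p) (Additive A) := AddCommGroup.zmodModule (n := p) fun v =>
    congrArg Additive.ofMul (hexp (Additive.toMul v))
  let T : Module.End (ZMod p) (Additive A) := σ.toMonoidHom.toAdditive.toZModLinearMap p
  have hT : ∀ (k : ℕ) (v : Additive A),
      (T ^ k) v = Additive.ofMul ((σ ^ k) (Additive.toMul v)) := by
    intro k
    induction k with
    | zero => intro v; simp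
    | succ k ih =>
      intro v
      rw [pow_succ, Module.End.mul_apply, ih, pow_succ]
      rfl
  have hTp : T ^ p = T := by
    refine LinearMap.ext fun v => ?_
    rw [hT, show σ ^ p = σ ^ (p - 1) * σ by rw [← pow_succ, Nat.sub_add_cancel hp.out.pos], hσ,
      one_mul]
    rfl
  by_contra hcon
  push Not at hcon
  have hinj : ∀ a : ZMod p, Function.Injective
      (Polynomial.aeval T (Polynomial.X - Polynomial.C a)) := by
    intro a
    rw [injective_iff_map_eq_zero]
    intro v hv
    obtain ⟨v, rfl⟩ := Additive.ofMul.surjective v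
    rw [Polynomial.aeval_sub, Polynomial.aeval_X, Polynomial.aeval_C, LinearMap.sub_apply,
      sub_eq_zero, Module.algebraMap_end_apply] at hv
    by_contra hne
    refine hcon v a.val (fun h => hne (by rw [h]; rfl)) ?_
    rw [← ZMod.natCast_zmod_val a, Nat.cast_smul_eq_nsmul] at hv
    exact congrArg Additive.toMul hv
  have hprod : ∀ s : Finset (ZMod p), Function.Injective
      (Polynomial.aeval T (∏ a ∈ s, (Polynomial.X - Polynomial.C a))) := by
    intro s
    induction s using Finset.induction_on with
    | empty =>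
      rw [Finset.prod_empty, map_one]
      exact Function.injective_id
    | insert a s has ih =>
      rw [Finset.prod_insert has, map_mul]
      exact (hinj a).comp ih
  have h0 := hprod Finset.univ
  have hP : (∏ a : ZMod p, (Polynomial.X - Polynomial.C a)) = Polynomial.X ^ p - Polynomial.X := by
    have hmon : (Polynomial.X ^ p - Polynomial.X : Polynomial (ZMod p)).Monic :=
      Polynomial.monic_X_pow_sub (by
        rw [Polynomial.degree_X]; exact_mod_cast hp.out.one_lt)
    have hr : (Polynomial.X ^ p - Polynomial.X : Polynomial (ZMod p)).roots = Finset.univ.val := by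
      simpa [ZMod.card] using FiniteField.roots_X_pow_card_sub_X (ZMod p)
    have h2 := Polynomial.prod_multiset_X_sub_C_of_monic_of_roots_card_eq hmon (by
      rw [hr, FiniteField.X_pow_card_sub_X_natDegree_eq (ZMod p) hp.out.one_lt]
      simp)
    rw [hr] at h2
    exact h2
  rw [hP, Polynomial.aeval_sub, map_pow, Polynomial.aeval_X, hTp, sub_self] at h0
  obtain ⟨v, hv⟩ := hne
  exact hv (congrArg Additive.toMul (h0 (a₁ := Additive.ofMul v) (a₂ := 0) rfl))

omit [Finite G] in
/-- An element acting with order dividing `p - 1` on a nontrivial normal elementary abelian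
`p`-subgroup has an eigenvector there. -/
theorem exists_power_eigenvector {p : ℕ} [hp : Fact p.Prime] (N : Subgroup G) [N.Normal]
    (hN : N ≠ ⊥) [hc : IsMulCommutative N] (hexp : ∀ v ∈ N, v ^ p = 1) (g : G)
    (hg : g ^ (p - 1) ∈ Subgroup.centralizer (N : Set G)) :
    ∃ (v : G) (m : ℕ), v ∈ N ∧ v ≠ 1 ∧ g * v * g⁻¹ = v ^ m := by
  letI : CommGroup N := { (inferInstance : Group N) with mul_comm := hc.is_comm.comm }
  obtain ⟨v, hv, hv1⟩ := (Subgroup.bot_or_exists_ne_one N).resolve_left hN
  have hσ : (MulAut.conjNormal g : MulAut N) ^ (p - 1) = 1 := by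
    rw [← map_pow]
    refine MulEquiv.ext fun w => Subtype.ext ?_
    rw [MulAut.conjNormal_apply]
    change g ^ (p - 1) * (w : G) * (g ^ (p - 1))⁻¹ = w
    rw [← Subgroup.mem_centralizer_iff.1 hg w w.2, mul_inv_cancel_right]
  obtain ⟨w, m, hw, hm⟩ := exists_eigenvector_of_pow_eq_one (p := p)
    (fun u : N => Subtype.ext (by simpa using hexp u u.2))
    ⟨⟨v, hv⟩, fun h => hv1 (congrArg Subtype.val h)⟩ (MulAut.conjNormal g) hσ
  refine ⟨w, m, w.2, fun h => hw (Subtype.ext h), ?_⟩
  rw [← MulAut.conjNormal_apply, hm, Subgroup.coe_pow]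

end CfsgLib.PSolvable
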