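/-
Wielandt's theorem: a finite group which is the product of two nilpotent subgroups of coprime
orders is solvable.  The core of the argument: a minimal counterexample is contradictory.
-/
import Mathlib
import Cfsg.Agent.Lib.PSolvable.NilpotentFactors
import Cfsg.Agent.Lib.Subnormal.BaerSuzuki
import Cfsg.Agent.Lib.NormalPComplement.Thompson
import Cfsg.Agent.Lib.CoprimeAction.Sylow
import Cfsg.Agent.S0581

set_option autoImplicit false
set_option linter.style.haveILetI false

open scoped Pointwise commutatorElement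
open Cfsg (HasNormalPComplement)

namespace CfsgLib.PSolvable

universe u

variable {G : Type u} [Group G] [Finite G]

/-- The properties of a minimal counterexample with factors of coprime order. -/
structure NilProd (A B : Subgroup G) : Prop where
  nilA : Group.IsNilpotent A
  nilB : Group.IsNilpotent B
  cop : (Nat.card A).Coprime (Nat.card B)
  fac : IsFactor A B
  twoA : ∀ p : ℕ, ∃ r, r.Prime ∧ r ≠ p ∧ r ∣ Nat.card A
  twoB : ∀ p : ℕ, ∃ r, r.Prime ∧ r ≠ p ∧ r ∣ Nat.card B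
  noSolv : ∀ N : Subgroup G, N.Normal → Group.IsSolvable N → N = ⊥
  quot : ∀ (N : Subgroup G) [N.Normal], N ≠ ⊥ → Group.IsSolvable (G ⧸ N)
  facSolv : ∀ X : Subgroup G, X ≠ ⊤ → (∀ g ∈ X, ∃ a ∈ A ⊓ X, ∃ b ∈ B ⊓ X, g = a * b) →
    Group.IsSolvable X

namespace NilProd

variable {A B : Subgroup G}

omit [Finite G] in
theorem swap (S : NilProd A B) : NilProd B A where
  nilA := S.nilB
  nilB := S.nilA
  cop := S.cop.symm
  fac := S.fac.swap
  twoA := S.twoB
  twoB := S.twoA
  noSolv := S.noSolv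
  quot := S.quot
  facSolv := fun X hX h => S.facSolv X hX fun g hg => by
    obtain ⟨b, hb, a, ha, he⟩ := h g⁻¹ (inv_mem hg)
    exact ⟨a⁻¹, inv_mem ha, b⁻¹, inv_mem hb, by rw [← mul_inv_rev, ← he, inv_inv]⟩

omit [Finite G] in
theorem A_ne_bot (S : NilProd A B) : A ≠ ⊥ := fun h => by
  obtain ⟨r, hr, -, hd⟩ := S.twoA 0
  rw [h, Subgroup.card_bot] at hd
  exact hr.not_dvd_one hd

theorem inf_eq_bot (S : NilProd A B) : A ⊓ B = ⊥ := inf_eq_bot_of_coprime_card S.cop

theorem card_eq (S : NilProd A B) : Nat.card G = Nat.card A * Nat.card B := by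
  rw [← S.fac.card_eq, S.inf_eq_bot, Subgroup.card_bot, mul_one]

theorem index_eq (S : NilProd A B) : A.index = Nat.card B :=
  Nat.mul_left_cancel Nat.card_pos (A.card_mul_index.trans S.card_eq)

theorem prime_cases (S : NilProd A B) {p : ℕ} (hp : p.Prime) (h : p ∣ Nat.card G) :
    (p ∣ Nat.card A ∧ ¬ p ∣ Nat.card B) ∨ (p ∣ Nat.card B ∧ ¬ p ∣ Nat.card A) := by
  have hno : ∀ _ : p ∣ Nat.card A, ¬ p ∣ Nat.card B := fun h1 h2 =>
    hp.not_dvd_one (S.cop.gcd_eq_one ▸ Nat.dvd_gcd h1 h2)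
  rw [S.card_eq] at h
  rcases hp.dvd_mul.1 h with h | h
  · exact Or.inl ⟨h, hno h⟩
  · exact Or.inr ⟨h, fun h' => hno h' h⟩

omit [Finite G] in
theorem ne_top_of_solvable (S : NilProd A B) {X : Subgroup G} (hX : Group.IsSolvable X) :
    X ≠ ⊤ := by
  rintro rfl
  have h := S.noSolv ⊤ inferInstance hX
  exact S.A_ne_bot (le_bot_iff.1 (h ▸ le_top))

omit [Finite G] in
theorem normalizer_ne_top (S : NilProd A B) {U : Subgroup G} (hU : Group.IsSolvable U)
    (hne : U ≠ ⊥) : Subgroup.normalizer (U : Set G) ≠ ⊤ := fun h =>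
  hne (S.noSolv U (Subgroup.normalizer_eq_top_iff.1 h) hU)

theorem subnormal_eq_bot (S : NilProd A B) {U : Subgroup G} (hU : U.IsSubnormal)
    (hs : Group.IsSolvable U) : U = ⊥ := by
  by_contra hne
  haveI := hs
  haveI : Nontrivial U := (Subgroup.nontrivial_iff_ne_bot U).2 hne
  have h1 := CfsgLib.Cores.map_subtype_fittingSubgroup_le hU
  haveI : (Cfsg.fittingSubgroup G).Normal := CfsgLib.Cores.fittingSubgroup_normal G
  haveI := CfsgLib.Cores.isNilpotent_fittingSubgroup (G := G)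
  rw [S.noSolv (Cfsg.fittingSubgroup G) inferInstance inferInstance, le_bot_iff,
    Subgroup.map_eq_bot_iff_of_injective _ U.subtype_injective] at h1
  exact CfsgLib.Cores.fittingSubgroup_ne_bot h1

omit [Finite G] in
/-- A solvable proper subgroup normalizing nothing: conjugates of a normal part of `B`. -/
theorem closure_contra (S : NilProd A B) {X B₀ : Subgroup G} (hX : Group.IsSolvable X)
    (hA : A ≤ X) (hB₀n : B ≤ Subgroup.normalizer (B₀ : Set G)) (hB₀ : B₀ ≤ X) (hne : B₀ ≠ ⊥) :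
    False := by
  have hle : Subgroup.normalClosure (B₀ : Set G) ≤ X := by
    rw [Subgroup.normalClosure, Subgroup.closure_le]
    intro g hg
    obtain ⟨x, hx, hc⟩ := Group.mem_conjugatesOfSet_iff.1 hg
    obtain ⟨c, rfl⟩ := isConj_iff.1 hc
    obtain ⟨a, ha, b, hb, rfl⟩ := S.fac c
    have h1 := X.mul_mem (X.mul_mem (hA ha)
      (hB₀ ((Subgroup.mem_normalizer_iff.1 (hB₀n hb) x).1 hx))) (X.inv_mem (hA ha))
    simpa [mul_assoc] using h1
  haveI := hX
  have hs : Group.IsSolvable (Subgroup.normalClosure (B₀ : Set G)) :=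
    CfsgLib.CoprimeAction.isSolvable_of_le hle
  have h := S.noSolv _ inferInstance hs
  exact hne (le_bot_iff.1 (h ▸ Subgroup.le_normalClosure))

omit [Finite G] in
/-- A proper subgroup containing `A` is solvable. -/
theorem solvable_of_le (S : NilProd A B) {X : Subgroup G} (hX : X ≠ ⊤) (hA : A ≤ X) :
    Group.IsSolvable X := by
  refine S.facSolv X hX fun g hg => ?_
  obtain ⟨a, ha, b, hb, rfl⟩ := S.fac g
  exact ⟨a, ⟨ha, hA ha⟩, b, ⟨hb, (X.mul_mem_cancel_left (hA ha)).1 hg⟩, rfl⟩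

/-- Normalizers of subgroups generated by normal parts of both factors. -/
theorem exists_overgroup (S : NilProd A B) {U A₀ B₀ : Subgroup G} (hU : Group.IsSolvable U)
    (hUne : U ≠ ⊥) (hA₀ : A₀ ≤ Subgroup.normalizer (U : Set G))
    (hB₀ : B₀ ≤ Subgroup.normalizer (U : Set G)) (hAn : A ≤ Subgroup.normalizer (A₀ : Set G))
    (hBn : B ≤ Subgroup.normalizer (B₀ : Set G)) (hA₀ne : A₀ ≠ ⊥) :
    ∃ X : Subgroup G, Group.IsSolvable X ∧ A₀ ≤ X ∧ B₀ ≤ X ∧
      ∀ g ∈ X, ∃ a ∈ A ⊓ X, ∃ b ∈ B ⊓ X, g = a * b := by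
  let H := A₀ ⊔ B₀
  let X := Subgroup.normalizer (H : Set G)
  have hHU : H ≤ Subgroup.normalizer (U : Set G) := sup_le hA₀ hB₀
  have hne : X ≠ ⊤ := by
    intro htop
    haveI hHn : H.Normal := Subgroup.normalizer_eq_top_iff.1 htop
    have hHne : H ≠ ⊥ := fun h => hA₀ne (le_bot_iff.1 (h ▸ le_sup_left))
    have hY : U ⊓ H = ⊥ := by
      haveI := hU
      refine S.subnormal_eq_bot ?_ (CfsgLib.CoprimeAction.isSolvable_of_le inf_le_left)
      refine Subgroup.IsSubnormal.step _ H inf_le_right hHn.isSubnormal ?_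
      refine (Subgroup.normal_subgroupOf_iff_le_normalizer inf_le_right).2 fun x hx => ?_
      refine mem_normalizer_of_conj_le fun y hy => ?_
      rw [mem_conj_smul_iff] at hy
      refine ⟨?_, ?_⟩
      · have := (Subgroup.mem_normalizer_iff.1 (hHU hx) _).1 hy.1
        simpa [mul_assoc] using this
      · have := H.mul_mem (H.mul_mem hx hy.2) (H.inv_mem hx)
        simpa [mul_assoc] using this
    let C := Subgroup.centralizer (H : Set G)
    haveI hCn : C.Normal := Subgroup.normal_centralizer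
    have hUC : U ≤ C := fun u hu => Subgroup.mem_centralizer_iff.2 fun h hh => by
      rw [← commutatorElement_eq_one_iff_mul_comm, ← Subgroup.mem_bot, ← hY]
      refine ⟨?_, ?_⟩
      · have h1 := (Subgroup.mem_normalizer_iff.1 (hHU hh) u).1 hu
        rw [commutatorElement_def]
        exact U.mul_mem h1 (U.inv_mem hu)
      · have h1 := hHn.conj_mem _ (H.inv_mem hh) u
        rw [commutatorElement_def, show h * u * h⁻¹ * u⁻¹ = h * (u * h⁻¹ * u⁻¹) by group]
        exact H.mul_mem hh h1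
    have hCH : C ⊓ H = ⊥ := by
      haveI : IsMulCommutative (C ⊓ H : Subgroup G) := ⟨⟨fun x y => Subtype.ext
        (Subgroup.mem_centralizer_iff.1 y.2.1 x x.2.2)⟩⟩
      exact S.noSolv _ inferInstance (CfsgLib.CoprimeAction.isSolvable_of_isMulCommutative _)
    have hinj : Function.Injective ((QuotientGroup.mk' H).comp C.subtype) := by
      rw [injective_iff_map_eq_one]
      intro c hc
      have : (c : G) ∈ C ⊓ H := ⟨c.2, (QuotientGroup.eq_one_iff _).1 hc⟩
      rw [hCH, Subgroup.mem_bot] at this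
      exact Subtype.ext this
    haveI := S.quot H hHne
    exact hUne (le_bot_iff.1 (S.noSolv C hCn (Group.isSolvable_of_isSolvable_injective hinj) ▸ hUC))
  have hfac : ∀ g ∈ X, ∃ a ∈ A ⊓ X, ∃ b ∈ B ⊓ X, g = a * b := by
    intro g hg
    obtain ⟨a, ha, b, hb, rfl⟩ := S.fac g
    have haX : a ∈ X := by
      refine mem_normalizer_of_conj_le ?_
      rw [Subgroup.smul_sup]
      refine sup_le ?_ ?_
      · rw [CfsgLib.CoprimeAction.conj_smul_eq_self.2 (hAn ha)]
        exact le_sup_left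
      · rw [← CfsgLib.CoprimeAction.conj_smul_eq_self.2 (hBn hb), ← mul_smul, ← map_mul]
        exact (Subgroup.pointwise_smul_le_pointwise_smul_iff.2 le_sup_right).trans
          (CfsgLib.CoprimeAction.conj_smul_eq_self.2 hg).le
    exact ⟨a, ⟨ha, haX⟩, b, ⟨hb, (X.mul_mem_cancel_left haX).1 hg⟩, rfl⟩
  exact ⟨X, S.facSolv X hne hfac, le_sup_left.trans Subgroup.le_normalizer,
    le_sup_right.trans Subgroup.le_normalizer, hfac⟩

/-- Pairs of normal parts lying in a common solvable factorized subgroup. -/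
def Pair (A B A₀ B₀ : Subgroup G) : Prop :=
  (A₀ ≤ A ∧ A₀ ≠ ⊥ ∧ A ≤ Subgroup.normalizer (A₀ : Set G)) ∧
  (B₀ ≤ B ∧ B₀ ≠ ⊥ ∧ B ≤ Subgroup.normalizer (B₀ : Set G)) ∧
  ∃ X : Subgroup G, Group.IsSolvable X ∧ A₀ ≤ X ∧ B₀ ≤ X ∧
    ∀ g ∈ X, ∃ a ∈ A ⊓ X, ∃ b ∈ B ⊓ X, g = a * b

omit [Finite G] in
theorem Pair.swap {A₀ B₀ : Subgroup G} (h : Pair A B A₀ B₀) : Pair B A B₀ A₀ := by
  obtain ⟨hA, hB, X, hX, h1, h2, h3⟩ := h
  refine ⟨hB, hA, X, hX, h2, h1, fun g hg => ?_⟩
  obtain ⟨a, ha, b, hb, he⟩ := h3 g⁻¹ (inv_mem hg)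
  exact ⟨b⁻¹, inv_mem hb, a⁻¹, inv_mem ha, by rw [← mul_inv_rev, ← he, inv_inv]⟩

/-- The `p`-core of a solvable factorized subgroup, for `p` dividing `|A|`. -/
theorem core_le (S : NilProd A B) {X : Subgroup G}
    (hX : ∀ g ∈ X, ∃ a ∈ A ⊓ X, ∃ b ∈ B ⊓ X, g = a * b) {p : ℕ} [hp : Fact p.Prime]
    (hpA : p ∣ Nat.card A) : (Cfsg.pCore p X).map X.subtype ≤ A := by
  have hf : IsFactor (A.subgroupOf X) (B.subgroupOf X) := fun g => by
    obtain ⟨a, ha, b, hb, he⟩ := hX g g.2
    exact ⟨⟨a, ha.2⟩, ha.1, ⟨b, hb.2⟩, hb.1, Subtype.ext he⟩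
  have hd : ∀ C : Subgroup G, Nat.card (C.subgroupOf X) ∣ Nat.card C := fun C => by
    rw [← Subgroup.card_map_of_injective (K := C.subgroupOf X) X.subtype_injective,
      Subgroup.subgroupOf_map_subtype]
    exact Subgroup.card_dvd_of_le inf_le_left
  rw [Subgroup.map_le_iff_le_comap]
  refine le_of_normal_coprime (A := A.subgroupOf X) hf
    ((S.cop.coprime_dvd_left (hd A)).coprime_dvd_right (hd B)) ?_
  obtain ⟨k, hk⟩ := IsPGroup.iff_card.1 (CfsgLib.Cores.isPGroup_pCore p X)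
  rw [hk]
  refine (Nat.Coprime.coprime_dvd_right (hd B) ?_).pow_left k
  exact S.cop.coprime_dvd_left hpA

/-- In a maximal pair, a nontrivial `p`-core puts the `p'`-part of `A` inside. -/
theorem grow (S : NilProd A B) {A₀ B₀ X : Subgroup G} (hpair : Pair A B A₀ B₀)
    (hmax : ∀ A₁, A₀ ≤ A₁ → Pair A B A₁ B₀ → A₁ ≤ A₀)
    (hX : Group.IsSolvable X ∧ A₀ ≤ X ∧ B₀ ≤ X ∧ ∀ g ∈ X, ∃ a ∈ A ⊓ X, ∃ b ∈ B ⊓ X, g = a * b)
    {p : ℕ} [hp : Fact p.Prime] (hpA : p ∣ Nat.card A) (hne : Cfsg.pCore p X ≠ ⊥) :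
    primeCompl p A ≤ A₀ := by
  obtain ⟨⟨hA₀, hA₀ne, hAn⟩, hB, -⟩ := hpair
  let U := (Cfsg.pCore p X).map X.subtype
  have hUA : U ≤ A := S.core_le hX.2.2.2 hpA
  have hUs : Group.IsSolvable U := by
    haveI : Group.IsNilpotent U :=
      ((CfsgLib.Cores.isPGroup_pCore p X).map X.subtype).isNilpotent
    infer_instance
  have hUne : U ≠ ⊥ := fun h =>
    hne ((Subgroup.map_eq_bot_iff_of_injective _ X.subtype_injective).1 h)
  have hXU : X ≤ Subgroup.normalizer (U : Set G) := le_normalizer_of_characteristic X _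
  let A₁ := A₀ ⊔ primeCompl p A
  have h1 : A₁ ≤ Subgroup.normalizer (U : Set G) := sup_le (hX.2.1.trans hXU)
    ((primeCompl_le_centralizer S.nilA hUA ((CfsgLib.Cores.isPGroup_pCore p X).map _)).trans
      (Subgroup.centralizer_le_normalizer _))
  have hAn1 : A ≤ Subgroup.normalizer (A₁ : Set G) := fun a ha => by
    refine mem_normalizer_of_conj_le ?_
    rw [Subgroup.smul_sup, CfsgLib.CoprimeAction.conj_smul_eq_self.2 (hAn ha),
      CfsgLib.CoprimeAction.conj_smul_eq_self.2 (le_normalizer_primeCompl p A ha)]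
  have hA1ne : A₁ ≠ ⊥ := fun h => hA₀ne (le_bot_iff.1 (h ▸ le_sup_left))
  obtain ⟨X', hX'⟩ := S.exists_overgroup hUs hUne h1 (hX.2.2.1.trans hXU) hAn1 hB.2.2 hA1ne
  exact le_sup_right.trans (hmax A₁ le_sup_left
    ⟨⟨sup_le hA₀ (primeCompl_le p A), hA1ne, hAn1⟩, hB, X', hX'⟩)

theorem unique_prime (S : NilProd A B) {A₀ B₀ X : Subgroup G} (hpair : Pair A B A₀ B₀)
    (hmax : ∀ A₁, A₀ ≤ A₁ → Pair A B A₁ B₀ → A₁ ≤ A₀)
    (hX : Group.IsSolvable X ∧ A₀ ≤ X ∧ B₀ ≤ X ∧ ∀ g ∈ X, ∃ a ∈ A ⊓ X, ∃ b ∈ B ⊓ X, g = a * b)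
    {p r : ℕ} [hp : Fact p.Prime] [hr : Fact r.Prime] (hpA : p ∣ Nat.card A)
    (hrA : r ∣ Nat.card A) (h1 : Cfsg.pCore p X ≠ ⊥) (h2 : Cfsg.pCore r X ≠ ⊥) : p = r := by
  by_contra hne
  have hA : A ≤ X := (le_primeCompl_sup S.nilA hr.out hne).trans (sup_le
    ((S.grow hpair hmax hX hpA h1).trans hX.2.1) ((S.grow hpair hmax hX hrA h2).trans hX.2.1))
  exact S.closure_contra hX.1 hA hpair.2.1.2.2 hX.2.2.1 hpair.2.1.2.1

theorem primeCompl_ne_bot (S : NilProd A B) (p : ℕ) [hp : Fact p.Prime] :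
    primeCompl p A ≠ ⊥ := by
  intro h
  obtain ⟨r, hr, hne, hd⟩ := S.twoA p
  haveI := Fact.mk hr
  obtain ⟨x, hx⟩ := exists_prime_orderOf_dvd_card' (G := A) r hd
  have h1 : (x : G) ∈ primeCompl p A := mem_primeCompl S.nilA x.2 (by
    rw [Subgroup.orderOf_coe, hx]; exact (Nat.coprime_primes hr hp.out).2 hne)
  rw [h, Subgroup.mem_bot] at h1
  rw [show x = 1 from Subtype.ext h1, orderOf_one] at hx
  exact hr.ne_one hx.symm

/-- Elements of `primeCompl` of a nilpotent subgroup have order prime to `p`, so a `p`-group meets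
it trivially. -/
theorem inf_eq_bot_primeCompl {p : ℕ} [hp : Fact p.Prime] {U : Subgroup G} (hU : IsPGroup p U)
    (C : Subgroup G) {x : G} (hxU : x ∈ U) (hx : x ∈ primeCompl p C) : x = 1 := by
  obtain ⟨k, hk⟩ := IsPGroup.iff_orderOf.1 hU ⟨x, hxU⟩
  rw [Subgroup.orderOf_mk] at hk
  have h := orderOf_coprime_of_mem_primeCompl hx
  rcases k with _ | k
  · exact orderOf_eq_one_iff.1 (by simpa using hk)
  · rw [hk, Nat.coprime_pow_left_iff (Nat.succ_pos k), Nat.coprime_self] at h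
    exact absurd h hp.out.ne_one

theorem exists_core_prime (S : NilProd A B) {A₀ B₀ X : Subgroup G} (hpair : Pair A B A₀ B₀)
    (hmax : ∀ A₁, A₀ ≤ A₁ → Pair A B A₁ B₀ → A₁ ≤ A₀)
    (hX : Group.IsSolvable X ∧ A₀ ≤ X ∧ B₀ ≤ X ∧ ∀ g ∈ X, ∃ a ∈ A ⊓ X, ∃ b ∈ B ⊓ X, g = a * b) :
    ∃ q : ℕ, q.Prime ∧ q ∣ Nat.card B ∧ Cfsg.pCore q X ≠ ⊥ := by
  by_contra hcon
  push Not at hcon
  haveI := hX.1
  haveI : Nontrivial X := (Subgroup.nontrivial_iff_ne_bot X).2
    fun h => hpair.1.2.1 (le_bot_iff.1 (h ▸ hX.2.1))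
  have hF := CfsgLib.Cores.fittingSubgroup_ne_bot (G := X)
  rw [Ne, CfsgLib.Cores.fittingSubgroup_eq_bot_iff] at hF
  push Not at hF
  obtain ⟨p, hp, hpne⟩ := hF
  haveI := Fact.mk hp
  have hside : ∀ r : ℕ, r.Prime → Cfsg.pCore r X ≠ ⊥ → r ∣ Nat.card A := by
    intro r hr hrne
    haveI := Fact.mk hr
    haveI : Nontrivial (Cfsg.pCore r X) := (Subgroup.nontrivial_iff_ne_bot _).2 hrne
    obtain ⟨k, hk, hc⟩ := (CfsgLib.Cores.isPGroup_pCore r X).nontrivial_iff_card.1 ‹_›
    have hd : r ∣ Nat.card G := ((dvd_pow_self r hk.ne').trans (hc ▸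
      Subgroup.card_subgroup_dvd_card (Cfsg.pCore r X))).trans (Subgroup.card_subgroup_dvd_card X)
    rcases S.prime_cases hr hd with h | h
    · exact h.1
    · exact absurd (hcon r hr h.1) hrne
  have honly : Cfsg.fittingSubgroup X ≤ Cfsg.pCore p X := by
    rw [CfsgLib.Cores.fittingSubgroup_eq_iSup_pCore]
    refine iSup_le fun r => ?_
    by_cases hr : Cfsg.pCore (r : ℕ) X = ⊥
    · rw [hr]; exact bot_le
    · haveI : Fact (r : ℕ).Prime := ⟨Nat.prime_of_mem_primeFactors r.2⟩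
      rw [← S.unique_prime hpair hmax hX (hside p hp hpne) (hside r Fact.out hr) hpne hr]
  let U := (Cfsg.pCore p X).map X.subtype
  have hUA : U ≤ A := S.core_le hX.2.2.2 (hside p hp hpne)
  have hcX : primeCompl p A ≤ X := (S.grow hpair hmax hX (hside p hp hpne) hpne).trans hX.2.1
  refine S.primeCompl_ne_bot p (eq_bot_iff.2 fun x hx => ?_)
  have h1 : (⟨x, hcX hx⟩ : X) ∈ Subgroup.centralizer (Cfsg.fittingSubgroup X : Set X) := by
    refine Subgroup.mem_centralizer_iff.2 fun u hu => Subtype.ext ?_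
    exact Subgroup.mem_centralizer_iff.1 (primeCompl_le_centralizer S.nilA hUA
      ((CfsgLib.Cores.isPGroup_pCore p X).map _) hx) u ⟨u, honly hu, rfl⟩
  exact Subgroup.mem_bot.2 (inf_eq_bot_primeCompl ((CfsgLib.Cores.isPGroup_pCore p X).map X.subtype) A
    ⟨_, honly (CfsgLib.Cores.centralizer_fittingSubgroup_le h1), rfl⟩ hx)

/-- The main lemma: no nontrivial solvable subgroup is normalized by normal parts of both
factors. -/
theorem no_pair (S : NilProd A B) {U A₀ B₀ : Subgroup G} (hU : Group.IsSolvable U) (hUne : U ≠ ⊥)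
    (hA₀ : A₀ ≤ A) (hA₀ne : A₀ ≠ ⊥) (hAn : A ≤ Subgroup.normalizer (A₀ : Set G))
    (hB₀ : B₀ ≤ B) (hB₀ne : B₀ ≠ ⊥) (hBn : B ≤ Subgroup.normalizer (B₀ : Set G))
    (hA₀U : A₀ ≤ Subgroup.normalizer (U : Set G)) (hB₀U : B₀ ≤ Subgroup.normalizer (U : Set G)) :
    False := by
  -- a maximal pair
  obtain ⟨⟨A₁, B₁⟩, hpair, hm⟩ : ∃ P : Subgroup G × Subgroup G,
      Maximal (fun P : Subgroup G × Subgroup G => Pair A B P.1 P.2) P := by
    obtain ⟨X, hX⟩ := S.exists_overgroup hU hUne hA₀U hB₀U hAn hBn hA₀ne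
    exact Set.Finite.exists_maximal (Set.toFinite _)
      ⟨(A₀, B₀), ⟨hA₀, hA₀ne, hAn⟩, ⟨hB₀, hB₀ne, hBn⟩, X, hX⟩
  change Pair A B A₁ B₁ at hpair
  have hmaxA : ∀ C, A₁ ≤ C → Pair A B C B₁ → C ≤ A₁ := fun C hC h =>
    (hm (y := (C, B₁)) h ⟨hC, le_rfl⟩).1
  have hmaxB : ∀ C, B₁ ≤ C → Pair B A C A₁ → C ≤ B₁ := fun C hC h =>
    (hm (y := (A₁, C)) h.swap ⟨le_rfl, hC⟩).2
  obtain ⟨X, hX⟩ := hpair.2.2
  obtain ⟨X', hX'⟩ := hpair.swap.2.2
  -- the same subgroup serves both orientations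
  have hXs : Group.IsSolvable X ∧ B₁ ≤ X ∧ A₁ ≤ X ∧
      ∀ g ∈ X, ∃ a ∈ B ⊓ X, ∃ b ∈ A ⊓ X, g = a * b := by
    refine ⟨hX.1, hX.2.2.1, hX.2.1, fun g hg => ?_⟩
    obtain ⟨a, ha, b, hb, he⟩ := hX.2.2.2 g⁻¹ (inv_mem hg)
    exact ⟨b⁻¹, inv_mem hb, a⁻¹, inv_mem ha, by rw [← mul_inv_rev, ← he, inv_inv]⟩
  obtain ⟨q, hq, hqB, hqne⟩ := S.exists_core_prime hpair hmaxA hX
  obtain ⟨p, hp, hpA, hpne⟩ := S.swap.exists_core_prime hpair.swap hmaxB hXs
  haveI := Fact.mk hp
  haveI := Fact.mk hq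
  have hA1 : primeCompl p A ≤ X := (S.grow hpair hmaxA hX hpA hpne).trans hX.2.1
  have hB1 : primeCompl q B ≤ X := (S.swap.grow hpair.swap hmaxB hXs hqB hqne).trans hXs.2.1
  haveI := hX.1
  let U₁ := Cfsg.pCore p X
  let V₁ := Cfsg.pCore q X
  have hU₁A : U₁.map X.subtype ≤ A := S.core_le hX.2.2.2 hpA
  have hV₁B : V₁.map X.subtype ≤ B := S.swap.core_le hXs.2.2.2 hqB
  have hF : Cfsg.fittingSubgroup X ≤ U₁ ⊔ V₁ := by
    rw [CfsgLib.Cores.fittingSubgroup_eq_iSup_pCore]
    refine iSup_le fun r => ?_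
    by_cases hr : Cfsg.pCore (r : ℕ) X = ⊥
    · rw [hr]; exact bot_le
    · haveI : Fact (r : ℕ).Prime := ⟨Nat.prime_of_mem_primeFactors r.2⟩
      rcases S.prime_cases (Nat.prime_of_mem_primeFactors r.2) ((Nat.dvd_of_mem_primeFactors r.2).trans
        (Subgroup.card_subgroup_dvd_card X)) with h | h
      · rw [← S.unique_prime hpair hmaxA hX hpA h.1 hpne hr]; exact le_sup_left
      · rw [← S.swap.unique_prime hpair.swap hmaxB hXs hqB h.1 hqne hr]; exact le_sup_right
  let T₀ : Subgroup X := (U₁ ⊔ V₁) ⊔ (primeCompl p A).subgroupOf X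
  let K := Subgroup.centralizer (U₁ : Set X)
  let L := Subgroup.centralizer (V₁ : Set X)
  haveI : K.Normal := Subgroup.normal_centralizer
  haveI : L.Normal := Subgroup.normal_centralizer
  have haK : ∀ a : X, (a : G) ∈ primeCompl p A → a ∈ K := fun a ha =>
    Subgroup.mem_centralizer_iff.2 fun u hu => Subtype.ext (Subgroup.mem_centralizer_iff.1
      (primeCompl_le_centralizer S.nilA hU₁A ((CfsgLib.Cores.isPGroup_pCore p X).map _) ha) u
      ⟨u, hu, rfl⟩)
  have hbL : ∀ b : X, (b : G) ∈ primeCompl q B → b ∈ L := fun b hb =>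
    Subgroup.mem_centralizer_iff.2 fun u hu => Subtype.ext (Subgroup.mem_centralizer_iff.1
      (primeCompl_le_centralizer S.nilB hV₁B ((CfsgLib.Cores.isPGroup_pCore q X).map _) hb) u
      ⟨u, hu, rfl⟩)
  have hKL : K ⊓ L ≤ U₁ ⊔ V₁ := by
    refine le_trans (fun x hx => ?_) ((CfsgLib.Cores.centralizer_fittingSubgroup_le).trans hF)
    refine Subgroup.mem_centralizer_iff.2 fun u hu => ?_
    have h1 : U₁ ⊔ V₁ ≤ Subgroup.centralizer ({x} : Set X) := sup_le
      (fun w hw => Subgroup.mem_centralizer_singleton_iff.2 (Subgroup.mem_centralizer_iff.1 hx.1 w hw))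
      (fun w hw => Subgroup.mem_centralizer_singleton_iff.2 (Subgroup.mem_centralizer_iff.1 hx.2 w hw))
    exact Subgroup.mem_centralizer_singleton_iff.1 (h1 (hF hu))
  haveI hUVn : (U₁ ⊔ V₁).Normal := inferInstance
  have hbT : ∀ b : X, (b : G) ∈ primeCompl q B → b ∈ Subgroup.normalizer (T₀ : Set X) := by
    intro b hb
    refine mem_normalizer_of_conj_le ?_
    rw [Subgroup.smul_sup]
    refine sup_le ?_ ?_
    · rw [CfsgLib.CoprimeAction.conj_smul_eq_self.2
        (Subgroup.le_normalizer_of_normal (Subgroup.mem_top b) : b ∈ _)]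
      exact le_sup_left
    · intro y hy
      rw [mem_conj_smul_iff, Subgroup.mem_subgroupOf] at hy
      have h1 : ⁅b, b⁻¹ * y * b⁆ ∈ K ⊓ L := by
        have hK' := haK _ hy
        have hL' := hbL b hb
        rw [commutatorElement_def]
        refine ⟨K.mul_mem ((inferInstance : K.Normal).conj_mem _ hK' b) (K.inv_mem hK'), ?_⟩
        have h2 := (inferInstance : L.Normal).conj_mem _ (L.inv_mem hL') (b⁻¹ * y * b)
        rw [show b * (b⁻¹ * y * b) * b⁻¹ * (b⁻¹ * y * b)⁻¹ =
          b * ((b⁻¹ * y * b) * b⁻¹ * (b⁻¹ * y * b)⁻¹) by group]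
        exact L.mul_mem hL' h2
      have h3 : y = ⁅b, b⁻¹ * y * b⁆ * (b⁻¹ * y * b) := by group
      rw [h3]
      exact mul_mem (Subgroup.mem_sup_left (hKL h1)) (Subgroup.mem_sup_right hy)
  -- a prime of `A` other than `p`
  obtain ⟨r, hr, hrp, hrA⟩ := S.twoA p
  haveI := Fact.mk hr
  let R := primePart r A
  have hRA1 : R ≤ primeCompl p A := fun x hx => by
    obtain ⟨k, hk⟩ := IsPGroup.iff_orderOf.1 (isPGroup_primePart r A) ⟨x, hx⟩
    rw [Subgroup.orderOf_mk] at hk
    exact mem_primeCompl S.nilA (primePart_le r A hx)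
      (hk ▸ ((Nat.coprime_primes hr hp).2 hrp).pow_left k)
  let T : Subgroup G := T₀.map X.subtype
  have hRT : R ≤ T := fun x hx =>
    ⟨⟨x, hA1 (hRA1 hx)⟩, Subgroup.mem_sup_right (hRA1 hx), rfl⟩
  have hri : ¬ r ∣ R.index := not_dvd_index_primePart S.nilA (by
    rw [S.index_eq]
    exact fun h => hr.not_dvd_one (S.cop.gcd_eq_one ▸ Nat.dvd_gcd hrA h))
  have hRne : R ≠ ⊥ := fun h => by
    obtain ⟨x, hx⟩ := exists_prime_orderOf_dvd_card' (G := A) r hrA
    have h1 : (x : G) ∈ R := mem_primePart S.nilA (k := 1) x.2 (by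
      rw [Subgroup.orderOf_coe, hx, pow_one])
    rw [h, Subgroup.mem_bot] at h1
    rw [show x = 1 from Subtype.ext h1, orderOf_one] at hx
    exact hr.ne_one hx.symm
  have hN : primeCompl q B ≤ Subgroup.normalizer (R : Set G) := by
    intro b hb
    let b' : X := ⟨b, hB1 hb⟩
    have hcR : MulAut.conj b • R ≤ T := by
      intro y hy
      rw [mem_conj_smul_iff] at hy
      obtain ⟨t, ht, hty⟩ := hRT hy
      refine ⟨b' * t * b'⁻¹, (Subgroup.mem_normalizer_iff.1 (hbT b' hb) t).1 ht, ?_⟩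
      change b * (t : G) * b⁻¹ = y
      rw [show (t : G) = b⁻¹ * y * b from hty]
      group
    obtain ⟨t, ht, hte⟩ := exists_mem_conj_eq (isPGroup_primePart r A) hRT hcR hri
      (Nat.card_congr (Subgroup.equivSMul (MulAut.conj b) R).symm.toEquiv)
    -- `t` is a product of an element of `V₁` and one of `A`
    have hTVA : T₀ ≤ V₁ ⊔ A.subgroupOf X := sup_le (sup_le
      ((Subgroup.map_le_iff_le_comap.1 hU₁A).trans le_sup_right) le_sup_left)
      (fun y hy => Subgroup.mem_sup_right (primeCompl_le p A hy))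
    obtain ⟨t', ht', rfl⟩ := ht
    obtain ⟨v, hv, c, hc, rfl⟩ := Subgroup.mem_sup_of_normal_left.1 (hTVA ht')
    have hcN : (c : G) ∈ Subgroup.normalizer (R : Set G) := le_normalizer_primePart r A hc
    rw [map_mul X.subtype, map_mul, mul_smul, Subgroup.coe_subtype,
      CfsgLib.CoprimeAction.conj_smul_eq_self.2 hcN] at hte
    have h2 : (v : G)⁻¹ * b ∈ Subgroup.normalizer (R : Set G) := by
      refine CfsgLib.CoprimeAction.conj_smul_eq_self.1 ?_
      rw [map_mul, mul_smul, ← hte, map_inv, inv_smul_smul]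
    have hvB : (v : G) ∈ B := hV₁B ⟨v, hv, rfl⟩
    obtain ⟨k, hk⟩ := IsPGroup.iff_orderOf.1 ((CfsgLib.Cores.isPGroup_pCore q X).map X.subtype)
      ⟨v, ⟨v, hv, rfl⟩⟩
    rw [← Subgroup.orderOf_coe] at hk
    change orderOf (v : G) = q ^ k at hk
    have hcomm : (v : G)⁻¹ * b = b * (v : G)⁻¹ :=
      (Commute.inv_left (commute_primeCompl S.nilB hvB hk hb : Commute (v : G) b)).eq
    refine (Subgroup.zpowers_le.2 h2) (mem_zpowers_mul_of_coprime hcomm ?_)
    rw [orderOf_inv, hk]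
    exact (orderOf_coprime_of_mem_primeCompl hb).symm.pow_left k
  haveI hRs : Group.IsSolvable R := by
    haveI : Group.IsNilpotent R := (isPGroup_primePart r A).isNilpotent
    infer_instance
  exact S.closure_contra (S.solvable_of_le (S.normalizer_ne_top hRs hRne)
    (le_normalizer_primePart r A)) (le_normalizer_primePart r A) (le_normalizer_primeCompl q B) hN
    (S.swap.primeCompl_ne_bot q)

theorem no_pair_conj (S : NilProd A B) {U A₀ B₀ : Subgroup G} (hU : Group.IsSolvable U)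
    (hUne : U ≠ ⊥) (hA₀ : A₀ ≤ A) (hA₀ne : A₀ ≠ ⊥) (hAn : A ≤ Subgroup.normalizer (A₀ : Set G))
    (hB₀ : B₀ ≤ B) (hB₀ne : B₀ ≠ ⊥) (hBn : B ≤ Subgroup.normalizer (B₀ : Set G)) (k : G)
    (hA₀U : A₀ ≤ Subgroup.normalizer (U : Set G))
    (hB₀U : MulAut.conj k • B₀ ≤ Subgroup.normalizer (U : Set G)) : False := by
  obtain ⟨a, ha, b, hb, rfl⟩ := S.fac k
  rw [map_mul, mul_smul, CfsgLib.CoprimeAction.conj_smul_eq_self.2 (hBn hb)] at hB₀U
  haveI := hU
  let U' : Subgroup G := MulAut.conj a⁻¹ • U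
  have hU's : Group.IsSolvable U' :=
    Group.isSolvable_of_surjective (f := (Subgroup.equivSMul (MulAut.conj a⁻¹) U).toMonoidHom)
      (Subgroup.equivSMul (MulAut.conj a⁻¹) U).surjective
  have hU'ne : U' ≠ ⊥ := fun h => hUne (by
    rw [← inv_smul_smul (MulAut.conj a⁻¹) U, show MulAut.conj a⁻¹ • U = ⊥ from h, Subgroup.smul_bot])
  refine S.no_pair hU's hU'ne hA₀ hA₀ne hAn hB₀ hB₀ne hBn (fun x hx => ?_) (fun x hx => ?_)
  · rw [mem_normalizer_conj_smul_iff, inv_inv]
    exact hA₀U ((Subgroup.mem_normalizer_iff.1 (hAn ha) x).1 hx)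
  · rw [mem_normalizer_conj_smul_iff, inv_inv]
    exact hB₀U (mem_conj_smul_iff.2 (by simpa [mul_assoc] using hx))

theorem centerOf_ne_bot (S : NilProd A B) : centerOf A ≠ ⊥ := by
  intro h
  obtain ⟨r, hr, -, hd⟩ := S.twoA 0
  haveI := Fact.mk hr
  obtain ⟨z, hz, hzo⟩ := exists_orderOf_eq_mem_centerOf S.nilA hd
  rw [h, Subgroup.mem_bot] at hz
  rw [hz, orderOf_one] at hzo
  exact hr.ne_one hzo.symm

theorem exists_conj_le (S : NilProd A B) {U : Subgroup G}
    (hU : ∀ p : ℕ, p.Prime → p ∣ Nat.card U → p ∣ Nat.card A) :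
    ∃ k : G, U ≤ MulAut.conj k • A :=
  Cfsg.Agent.S0581.result A U S.nilA (by rw [S.index_eq]; exact S.cop) hU

theorem solvable_of_primes (S : NilProd A B) {U : Subgroup G}
    (hU : ∀ p : ℕ, p.Prime → p ∣ Nat.card U → p ∣ Nat.card A) : Group.IsSolvable U := by
  obtain ⟨k, hk⟩ := S.exists_conj_le hU
  haveI := S.nilA
  haveI : Group.IsNilpotent (MulAut.conj k • A : Subgroup G) :=
    Group.nilpotent_of_mulEquiv (Subgroup.equivSMul (MulAut.conj k) A)
  exact CfsgLib.CoprimeAction.isSolvable_of_le hk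

/-- A normal part of `A` normalizes no nontrivial subgroup whose primes divide `|B|`. -/
theorem eq_bot_of_invariant (S : NilProd A B) {U A₀ : Subgroup G}
    (hU : ∀ p : ℕ, p.Prime → p ∣ Nat.card U → p ∣ Nat.card B) (hA₀ : A₀ ≤ A) (hA₀ne : A₀ ≠ ⊥)
    (hAn : A ≤ Subgroup.normalizer (A₀ : Set G)) (hA₀U : A₀ ≤ Subgroup.normalizer (U : Set G)) :
    U = ⊥ := by
  by_contra hne
  obtain ⟨k, hk⟩ := S.swap.exists_conj_le hU
  refine S.no_pair_conj (S.swap.solvable_of_primes hU) hne hA₀ hA₀ne hAn (centerOf_le B)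
    S.swap.centerOf_ne_bot (le_normalizer_centerOf B) k hA₀U ?_
  intro x hx
  refine Subgroup.centralizer_le_normalizer _ (Subgroup.mem_centralizer_iff.2 fun u hu => ?_)
  have h1 := Subgroup.mem_centralizer_iff.1 (le_centralizer_centerOf B (mem_conj_smul_iff.1 (hk hu)))
    _ (mem_conj_smul_iff.1 hx)
  have h2 := congrArg (fun y => k * y * k⁻¹) h1
  simpa [mul_assoc] using h2.symm

omit [Finite G] in
theorem zpowers_centerOf {z : G} (hz : z ∈ centerOf A) (hz1 : z ≠ 1) :
    Subgroup.zpowers z ≤ A ∧ Subgroup.zpowers z ≠ ⊥ ∧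
      A ≤ Subgroup.normalizer (Subgroup.zpowers z : Set G) :=
  ⟨Subgroup.zpowers_le.2 (centerOf_le A hz), Subgroup.zpowers_ne_bot.2 hz1,
    le_normalizer_of_le_centerOf (Subgroup.zpowers_le.2 hz)⟩

theorem prime_mem_of_dvd_conj (S : NilProd A B) {H : Subgroup G} {p : ℕ} (hp : p.Prime)
    (h : p ∣ Nat.card H) : p ∣ Nat.card A ∨ p ∣ Nat.card B :=
  (S.prime_cases hp (h.trans H.card_subgroup_dvd_card)).imp And.left And.left

/-- A counterexample has odd order. -/
theorem not_two_dvd (S : NilProd A B) : ¬ 2 ∣ Nat.card B := by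
  intro h2
  haveI := Fact.mk Nat.prime_two
  obtain ⟨y, hyz, hyo⟩ := exists_orderOf_eq_mem_centerOf S.nilB h2
  have hy1 : y ≠ 1 := fun h => by rw [h, orderOf_one] at hyo; exact absurd hyo (by norm_num)
  obtain ⟨hyB, hyne, hyn⟩ := zpowers_centerOf hyz hy1
  have hyy : y * y = 1 := by rw [← pow_two, ← hyo, pow_orderOf_eq_one]
  suffices hmem : y ∈ Cfsg.pCore 2 G by
    haveI : Group.IsNilpotent (Cfsg.pCore 2 G) := (CfsgLib.Cores.isPGroup_pCore 2 G).isNilpotent
    rw [S.noSolv (Cfsg.pCore 2 G) inferInstance inferInstance, Subgroup.mem_bot] at hmem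
    exact hy1 hmem
  refine CfsgLib.Subnormal.mem_pCore_of_forall_closure_pair fun g => ?_
  let y' := g * y * g⁻¹
  have hy'y : y' * y' = 1 := by
    have : y' * y' = g * (y * y) * g⁻¹ := by simp only [y']; group
    rw [this, hyy]; group
  let x := y * y'
  have hyinv : y⁻¹ = y := inv_eq_of_mul_eq_one_right hyy
  have hy'inv : y'⁻¹ = y' := inv_eq_of_mul_eq_one_right hy'y
  have hxinv : y * x * y⁻¹ = x⁻¹ := by
    simp only [x, mul_inv_rev, hyinv, hy'inv]
    rw [← mul_assoc y y y', hyy, one_mul]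
  have hyN : ∀ n : ℕ, y ∈ Subgroup.normalizer (Subgroup.zpowers (x ^ n) : Set G) := fun n => by
    refine mem_normalizer_of_conj_le fun w hw => ?_
    rw [mem_conj_smul_iff] at hw
    obtain ⟨i, hi⟩ := Subgroup.mem_zpowers_iff.1 hw
    refine Subgroup.mem_zpowers_iff.2 ⟨-i, ?_⟩
    have hw' : w = y * (x ^ n) ^ i * y⁻¹ := by rw [hi]; group
    rw [hw', ← conj_zpow, ← conj_pow, hxinv, inv_pow, inv_zpow, zpow_neg]
  have hxp : ∀ p : ℕ, p.Prime → p ∣ orderOf x → p ∣ Nat.card B := by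
    intro p hp hd
    rcases S.prime_mem_of_dvd_conj hp (H := Subgroup.zpowers x) (by rwa [Nat.card_zpowers]) with h | h
    · exfalso
      have ho : orderOf (x ^ (orderOf x / p)) = p := orderOf_pow_orderOf_div (orderOf_pos x).ne' hd
      have hb := S.swap.eq_bot_of_invariant (U := Subgroup.zpowers (x ^ (orderOf x / p)))
        (fun r hr hrd => by
          rw [Nat.card_zpowers, ho] at hrd
          rwa [(Nat.prime_dvd_prime_iff_eq hr hp).1 hrd])
        hyB hyne hyn (Subgroup.zpowers_le.2 (hyN _))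
      rw [Subgroup.zpowers_eq_bot.1 hb, orderOf_one] at ho
      exact hp.ne_one ho.symm
    · exact h
  let D := Subgroup.closure ({y, y'} : Set G)
  have hD : D ≤ Subgroup.zpowers y ⊔ Subgroup.zpowers x := by
    rw [Subgroup.closure_le]
    rintro w (rfl | rfl)
    · exact Subgroup.mem_sup_left (Subgroup.mem_zpowers _)
    · have h1 := mul_mem (Subgroup.mem_sup_left (T := Subgroup.zpowers x) (Subgroup.mem_zpowers y))
        (Subgroup.mem_sup_right (S := Subgroup.zpowers y) (Subgroup.mem_zpowers x))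
      have h1' : y * x = y' := by
        change y * (y * y') = y'
        rw [← mul_assoc, hyy, one_mul]
      rwa [h1'] at h1
  have hcard : Nat.card D ∣ orderOf y * orderOf x := by
    refine (Subgroup.card_dvd_of_le hD).trans ?_
    rw [← Nat.card_zpowers, ← Nat.card_zpowers, ← card_mul_mul_card_inf,
      ← Subgroup.coe_mul_of_left_le_normalizer_right (Subgroup.zpowers y) (Subgroup.zpowers x)
        (Subgroup.zpowers_le.2 (by simpa using hyN 1))]
    exact Dvd.intro _ rfl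
  obtain ⟨k, hk⟩ := S.swap.exists_conj_le (U := D) fun p hp hd => by
    rcases hp.dvd_mul.1 (hd.trans hcard) with h | h
    · rw [hyo] at h
      rwa [(Nat.prime_dvd_prime_iff_eq hp Nat.prime_two).1 h]
    · exact hxp p hp h
  haveI := S.nilB
  have hBk : Group.IsNilpotent (MulAut.conj k • B : Subgroup G) :=
    Group.nilpotent_of_mulEquiv (Subgroup.equivSMul (MulAut.conj k) B)
  refine (isPGroup_primePart 2 (MulAut.conj k • B : Subgroup G)).to_le ((Subgroup.closure_le _).2 ?_)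
  rintro w (rfl | rfl)
  · exact mem_primePart hBk (hk (Subgroup.subset_closure (Or.inl rfl))) (k := 1)
      (by rw [hyo, pow_one])
  · refine mem_primePart hBk (hk (Subgroup.subset_closure (Or.inr rfl))) (k := 1) ?_
    change orderOf (MulAut.conj g y) = 2 ^ 1
    rw [MulEquiv.orderOf_eq, hyo, pow_one]

/-- Centralizers of central elements of `A`. -/
theorem centralizer_le_of_mem_center (S : NilProd A B) {z : G} (hz : z ∈ centerOf A) (hz1 : z ≠ 1) :
    Subgroup.centralizer ({z} : Set G) ≤ A := by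
  intro g hg
  obtain ⟨a, ha, b, hb, rfl⟩ := S.fac g
  rw [Subgroup.mem_centralizer_singleton_iff] at hg
  have haz : a * z = z * a :=
    (Subgroup.mem_centralizer_iff.1 (le_centralizer_centerOf A ha) z hz).symm
  have hbz : b * z = z * b := by
    calc b * z = a⁻¹ * (a * b * z) := by group
      _ = a⁻¹ * (z * (a * b)) := by rw [hg]
      _ = a⁻¹ * (a * z) * b := by rw [haz]; group
      _ = z * b := by group
  rcases eq_or_ne b 1 with rfl | hb1
  · rwa [mul_one]
  exfalso
  obtain ⟨h1, h2, h3⟩ := zpowers_centerOf hz hz1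
  refine S.no_pair (U := Subgroup.zpowers b) inferInstance (Subgroup.zpowers_ne_bot.2 hb1) h1 h2 h3
    (centerOf_le B) S.swap.centerOf_ne_bot (le_normalizer_centerOf B) ?_ ?_
  · refine le_trans (Subgroup.zpowers_le.2 ?_) (Subgroup.centralizer_le_normalizer _)
    refine Subgroup.mem_centralizer_iff.2 fun w hw => ?_
    obtain ⟨i, rfl⟩ := Subgroup.mem_zpowers_iff.1 hw
    exact ((show Commute b z from hbz).zpow_left i).eq
  · refine le_trans (fun y hy => ?_) (Subgroup.centralizer_le_normalizer _)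
    refine Subgroup.mem_centralizer_iff.2 fun w hw => ?_
    exact (Subgroup.mem_centralizer_iff.1 (le_centralizer_centerOf B
      ((Subgroup.zpowers_le.2 hb) hw)) y hy).symm

theorem pCore_eq_bot_of_invariant (S : NilProd A B) {X : Subgroup G} {z : G}
    (hz : z ∈ centerOf A) (hz1 : z ≠ 1) (hzX : z ∈ X) {q : ℕ} [hq : Fact q.Prime]
    (hqA : ¬ q ∣ Nat.card A) : Cfsg.pCore q X = ⊥ := by
  obtain ⟨h1, h2, h3⟩ := zpowers_centerOf hz hz1
  refine (Subgroup.map_eq_bot_iff_of_injective _ X.subtype_injective).1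
    (S.eq_bot_of_invariant (fun p hp hd => ?_) h1 h2 h3
      ((Subgroup.zpowers_le.2 hzX).trans (le_normalizer_of_characteristic X _)))
  obtain ⟨k, hk⟩ := IsPGroup.iff_card.1 ((CfsgLib.Cores.isPGroup_pCore q X).map X.subtype)
  have h4 : p ∣ Nat.card G := hd.trans (Subgroup.card_subgroup_dvd_card _)
  rw [hk] at hd
  obtain rfl := (Nat.prime_dvd_prime_iff_eq hp hq.out).1 (hp.dvd_of_dvd_pow hd)
  exact ((S.prime_cases hp h4).resolve_left fun h => hqA h.1).1

theorem prime_of_pCore_ne_bot (S : NilProd A B) {X : Subgroup G} {z : G}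
    (hz : z ∈ centerOf A) (hz1 : z ≠ 1) (hzX : z ∈ X) {r : ℕ} [hr : Fact r.Prime]
    (hne : Cfsg.pCore r X ≠ ⊥) : r ∣ Nat.card A := by
  by_contra h
  exact hne (S.pCore_eq_bot_of_invariant hz hz1 hzX h)

/-- A solvable subgroup containing `A` normalizes it. -/
theorem le_normalizer_of_solvable (S : NilProd A B) {X : Subgroup G} (hXs : Group.IsSolvable X)
    (hA : A ≤ X) : X ≤ Subgroup.normalizer (A : Set G) := by
  haveI := hXs
  obtain ⟨r₀, hr₀, -, hr₀A⟩ := S.twoA 0
  haveI := Fact.mk hr₀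
  obtain ⟨z₀, hz₀, hz₀o⟩ := exists_orderOf_eq_mem_centerOf S.nilA hr₀A
  have hz₀1 : z₀ ≠ 1 := fun h => by rw [h, orderOf_one] at hz₀o; exact hr₀.ne_one hz₀o.symm
  have hfac : ∀ g ∈ X, ∃ a ∈ A ⊓ X, ∃ b ∈ B ⊓ X, g = a * b := fun g hg => by
    obtain ⟨a, ha, b, hb, rfl⟩ := S.fac g
    exact ⟨a, ⟨ha, hA ha⟩, b, ⟨hb, (X.mul_mem_cancel_left (hA ha)).1 hg⟩, rfl⟩
  let F := Cfsg.fittingSubgroup X
  have hFA : F ≤ A.subgroupOf X := by
    simp only [F]
    rw [CfsgLib.Cores.fittingSubgroup_eq_iSup_pCore]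
    refine iSup_le fun r => ?_
    haveI : Fact (r : ℕ).Prime := ⟨Nat.prime_of_mem_primeFactors r.2⟩
    by_cases hr : Cfsg.pCore (r : ℕ) X = ⊥
    · rw [hr]; exact bot_le
    · exact Subgroup.map_le_iff_le_comap.1 (S.core_le hfac
        (S.prime_of_pCore_ne_bot hz₀ hz₀1 (hA (centerOf_le A hz₀)) hr))
  haveI hFn : F.Normal := CfsgLib.Cores.fittingSubgroup_normal X
  have hkey : ∀ p : ℕ, p.Prime → p ∣ Nat.card A →
      ∀ x : X, (x : G) ∈ primeCompl p A → x ∈ F := by
    intro p hp hpA x hx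
    haveI := Fact.mk hp
    obtain ⟨z, hz, hzo⟩ := exists_orderOf_eq_mem_centerOf S.nilA hpA
    have hz1 : z ≠ 1 := fun h => by rw [h, orderOf_one] at hzo; exact hp.ne_one hzo.symm
    let z' : X := ⟨z, hA (centerOf_le A hz)⟩
    have hzF : z' ∈ F := CfsgLib.Cores.centralizer_fittingSubgroup_le
      (Subgroup.mem_centralizer_iff.2 fun u hu => Subtype.ext
        (Subgroup.mem_centralizer_iff.1 (le_centralizer_centerOf A (hFA hu)) z hz).symm)
    have hzP : z' ∈ Cfsg.pCore p X := by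
      haveI := CfsgLib.Cores.isNilpotent_fittingSubgroup (G := X)
      refine CfsgLib.Cores.le_pCore_of_subnormal ?_ (IsPGroup.of_card (n := 1)
        (by rw [Nat.card_zpowers, Subgroup.orderOf_mk, hzo, pow_one])) (Subgroup.mem_zpowers z')
      exact Subgroup.IsSubnormal.trans (Subgroup.zpowers_le.2 hzF)
        (CfsgLib.Subnormal.isSubnormal_of_isNilpotent _) hFn.isSubnormal
    let K := Subgroup.centralizer (Cfsg.pCore p X : Set X)
    haveI hKn : K.Normal := Subgroup.normal_centralizer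
    have hKA : K ≤ A.subgroupOf X := fun k hk => S.centralizer_le_of_mem_center hz hz1
      (Subgroup.mem_centralizer_singleton_iff.2
        (congrArg Subtype.val (Subgroup.mem_centralizer_iff.1 hk z' hzP)).symm)
    have hKnil : Group.IsNilpotent K := by
      haveI := S.nilA
      haveI : Group.IsNilpotent (A.subgroupOf X) :=
        Group.nilpotent_of_mulEquiv (Subgroup.subgroupOfEquivOfLe hA).symm
      exact CfsgLib.Cores.isNilpotent_of_le inferInstance hKA
    refine CfsgLib.Cores.le_fittingSubgroup hKnil (Subgroup.mem_centralizer_iff.2 fun u hu =>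
      Subtype.ext ?_)
    have hU : (Cfsg.pCore p X).map X.subtype ≤ A := S.core_le hfac hpA
    exact Subgroup.mem_centralizer_iff.1 (primeCompl_le_centralizer S.nilA hU
      ((CfsgLib.Cores.isPGroup_pCore p X).map _) hx) u ⟨u, hu, rfl⟩
  obtain ⟨r₁, hr₁, hne, hr₁A⟩ := S.twoA r₀
  have hAF : A.subgroupOf X = F := by
    refine le_antisymm (fun x hx => ?_) hFA
    have h1 : A ≤ F.map X.subtype := by
      refine (le_primeCompl_sup S.nilA hr₁ (p := r₀) hne.symm).trans (sup_le ?_ ?_)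
      · exact fun y hy => ⟨⟨y, hA (primeCompl_le _ A hy)⟩, hkey r₀ hr₀ hr₀A _ hy, rfl⟩
      · exact fun y hy => ⟨⟨y, hA (primeCompl_le _ A hy)⟩, hkey r₁ hr₁ hr₁A _ hy, rfl⟩
    obtain ⟨w, hw, hwx⟩ := h1 hx
    rwa [X.subtype_injective hwx] at hw
  exact (Subgroup.normal_subgroupOf_iff_le_normalizer hA).1 (hAF ▸ hFn)

/-- Fusion of central elements of prime order is controlled by `N(A)`. -/
theorem mem_normalizer_of_conj_mem (S : NilProd A B) {p : ℕ} [hp : Fact p.Prime] {z g : G}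
    (hz : z ∈ centerOf A) (hzo : orderOf z = p) (hg : g * z * g⁻¹ ∈ A) :
    g ∈ Subgroup.normalizer (A : Set G) := by
  have hz1 : z ≠ 1 := fun h => by rw [h, orderOf_one] at hzo; exact hp.out.ne_one hzo.symm
  have hN : Subgroup.normalizer (primeCompl p A : Set G) ≤ Subgroup.normalizer (A : Set G) := by
    refine S.le_normalizer_of_solvable (S.solvable_of_le (S.normalizer_ne_top ?_
      (S.primeCompl_ne_bot p)) (le_normalizer_primeCompl p A)) (le_normalizer_primeCompl p A)
    haveI := S.nilA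
    haveI : Group.IsSolvable A := inferInstance
    exact CfsgLib.CoprimeAction.isSolvable_of_le (primeCompl_le p A)
  have ho : orderOf (g * z * g⁻¹) = p ^ 1 := by
    rw [show g * z * g⁻¹ = MulAut.conj g z from rfl, MulEquiv.orderOf_eq, hzo, pow_one]
  refine inv_mem_iff.1 (hN (mem_normalizer_of_conj_le fun w hw => ?_))
  rw [mem_conj_smul_iff, inv_inv] at hw
  have hc := commute_primeCompl S.nilA hg ho hw
  have hwA : w ∈ A := by
    refine S.centralizer_le_of_mem_center hz hz1 (Subgroup.mem_centralizer_singleton_iff.2 ?_)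
    calc w * z = g⁻¹ * (g * w * g⁻¹ * (g * z * g⁻¹)) * g := by group
      _ = g⁻¹ * (g * z * g⁻¹ * (g * w * g⁻¹)) * g := by rw [hc]
      _ = z * w := by group
  refine mem_primeCompl S.nilA hwA ?_
  have h2 := orderOf_coprime_of_mem_primeCompl hw
  rwa [show g * w * g⁻¹ = MulAut.conj g w from rfl, MulEquiv.orderOf_eq] at h2

/-- A subgroup of `A`-type containing a central element of prime order lies in `A`. -/
theorem le_of_primes (S : NilProd A B) {P : Subgroup G}
    (hP : ∀ r : ℕ, r.Prime → r ∣ Nat.card P → r ∣ Nat.card A) {p : ℕ} [Fact p.Prime] {z : G}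
    (hz : z ∈ centerOf A) (hzo : orderOf z = p) (hzP : z ∈ P) : P ≤ A := by
  obtain ⟨h, hh⟩ := S.exists_conj_le hP
  have h1 : h⁻¹ ∈ Subgroup.normalizer (A : Set G) :=
    S.mem_normalizer_of_conj_mem hz hzo (by rw [inv_inv]; exact mem_conj_smul_iff.1 (hh hzP))
  rwa [CfsgLib.CoprimeAction.conj_smul_eq_self.2 (by simpa using inv_mem h1)] at hh

/-- A solvable subgroup containing a central element of prime order lies in `N(A)`. -/
theorem le_normalizer_of_mem_center (S : NilProd A B) {X : Subgroup G} (hXs : Group.IsSolvable X)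
    {p : ℕ} [hp : Fact p.Prime] (hpA : p ∣ Nat.card A) {z : G} (hz : z ∈ centerOf A)
    (hzo : orderOf z = p) (hzX : z ∈ X) : X ≤ Subgroup.normalizer (A : Set G) := by
  haveI := hXs
  have hz1 : z ≠ 1 := fun h => by rw [h, orderOf_one] at hzo; exact hp.out.ne_one hzo.symm
  let F := Cfsg.fittingSubgroup X
  haveI hFn : F.Normal := CfsgLib.Cores.fittingSubgroup_normal X
  have hFp : ∀ r : ℕ, r.Prime → r ∣ Nat.card F → r ∣ Nat.card A := by
    intro r hr hd
    haveI := Fact.mk hr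
    refine S.prime_of_pCore_ne_bot hz hz1 hzX fun hb => ?_
    obtain ⟨x, hx⟩ := exists_prime_orderOf_dvd_card' (G := F) r hd
    haveI := CfsgLib.Cores.isNilpotent_fittingSubgroup (G := X)
    have h1 : (x : X) ∈ Cfsg.pCore r X := CfsgLib.Cores.le_pCore_of_subnormal
      (Subgroup.IsSubnormal.trans (Subgroup.zpowers_le.2 x.2)
        (CfsgLib.Subnormal.isSubnormal_of_isNilpotent _) hFn.isSubnormal)
      (IsPGroup.of_card (n := 1) (by rw [Nat.card_zpowers, Subgroup.orderOf_coe, hx, pow_one]))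
      (Subgroup.mem_zpowers _)
    rw [hb, Subgroup.mem_bot] at h1
    rw [show x = 1 from Subtype.ext h1, orderOf_one] at hx
    exact hr.ne_one hx.symm
  let z' : X := ⟨z, hzX⟩
  have hPA : (F ⊔ Subgroup.zpowers z').map X.subtype ≤ A := by
    refine S.le_of_primes (fun r hr hd => ?_) hz hzo
      ⟨z', Subgroup.mem_sup_right (Subgroup.mem_zpowers z'), rfl⟩
    rw [Subgroup.card_map_of_injective X.subtype_injective] at hd
    have h2 : Nat.card (F ⊔ Subgroup.zpowers z' : Subgroup X) ∣ Nat.card F * orderOf z' := by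
      rw [← Nat.card_zpowers, ← card_mul_mul_card_inf, ← Subgroup.normal_mul]
      exact Dvd.intro _ rfl
    rcases hr.dvd_mul.1 (hd.trans h2) with h | h
    · exact hFp r hr h
    · rw [Subgroup.orderOf_mk, hzo] at h
      rwa [(Nat.prime_dvd_prime_iff_eq hr hp.out).1 h]
  have hzF : z' ∈ F := CfsgLib.Cores.centralizer_fittingSubgroup_le
    (Subgroup.mem_centralizer_iff.2 fun u hu => Subtype.ext
      (Subgroup.mem_centralizer_iff.1 (le_centralizer_centerOf A
        (hPA ⟨u, Subgroup.mem_sup_left hu, rfl⟩)) z hz).symm)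
  intro x hx
  exact S.mem_normalizer_of_conj_mem hz hzo
    (hPA ⟨⟨x, hx⟩ * z' * (⟨x, hx⟩ : X)⁻¹, Subgroup.mem_sup_left (hFn.conj_mem _ hzF _), rfl⟩)

/-- Centralizers of elements of `B` normalizing `A` lie in `N(B)`. -/
theorem centralizer_le_of_mem_normalizer (S : NilProd A B) {s : G} (hs : s ∈ B)
    (hsA : s ∈ Subgroup.normalizer (A : Set G)) (hs1 : s ≠ 1) :
    Subgroup.centralizer ({s} : Set G) ≤ Subgroup.normalizer (B : Set G) := by
  have hne : Subgroup.centralizer ({s} : Set G) ≠ ⊤ := by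
    intro h
    haveI : (Subgroup.zpowers s).Normal := ⟨fun x hx g => by
      obtain ⟨i, rfl⟩ := Subgroup.mem_zpowers_iff.1 hx
      have hg : g ∈ Subgroup.centralizer ({s} : Set G) := h ▸ Subgroup.mem_top g
      have hc : Commute g (s ^ i) :=
        (show Commute g s from Subgroup.mem_centralizer_singleton_iff.1 hg).zpow_right i
      rw [hc.eq, mul_inv_cancel_right]
      exact Subgroup.zpow_mem _ (Subgroup.mem_zpowers s) i⟩
    exact hs1 (Subgroup.zpowers_eq_bot.1 (S.noSolv (Subgroup.zpowers s) inferInstance inferInstance))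
  have hXs : Group.IsSolvable (Subgroup.centralizer ({s} : Set G)) := by
    refine S.facSolv _ hne fun g hg => ?_
    obtain ⟨a, ha, b, hb, rfl⟩ := S.fac g
    have hg' := Subgroup.mem_centralizer_singleton_iff.1 hg
    have h1 : a⁻¹ * s * a * s⁻¹ ∈ A ⊓ B := by
      refine ⟨?_, ?_⟩
      · rw [show a⁻¹ * s * a * s⁻¹ = a⁻¹ * (s * a * s⁻¹) by group]
        exact A.mul_mem (A.inv_mem ha) ((Subgroup.mem_normalizer_iff.1 hsA a).1 ha)
      · rw [show a⁻¹ * s * a = b * s * b⁻¹ by
          calc a⁻¹ * s * a = a⁻¹ * (s * (a * b)) * b⁻¹ := by group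
            _ = a⁻¹ * (a * b * s) * b⁻¹ := by rw [hg']
            _ = b * s * b⁻¹ := by group]
        exact B.mul_mem (B.mul_mem (B.mul_mem hb hs) (B.inv_mem hb)) (B.inv_mem hs)
    rw [S.inf_eq_bot, Subgroup.mem_bot] at h1
    have haC : a ∈ Subgroup.centralizer ({s} : Set G) := by
      rw [Subgroup.mem_centralizer_singleton_iff]
      calc a * s = a * (a⁻¹ * s * a * s⁻¹) * s := by rw [h1, mul_one]
        _ = s * a := by group
    exact ⟨a, ⟨ha, haC⟩, b, ⟨hb, ((Subgroup.centralizer ({s} : Set G)).mul_mem_cancel_left haC).1 hg⟩,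
      rfl⟩
  obtain ⟨q, hq, -, hqB⟩ := S.twoB 0
  haveI := Fact.mk hq
  obtain ⟨y, hy, hyo⟩ := exists_orderOf_eq_mem_centerOf S.nilB hqB
  exact S.swap.le_normalizer_of_mem_center hXs hqB hy hyo (Subgroup.mem_centralizer_singleton_iff.2
    (Subgroup.mem_centralizer_iff.1 (le_centralizer_centerOf B hs) y hy))

/-- Centralizers of elements of `A` of prime order lie in `N(A)` (odd order). -/
theorem centralizer_le_normalizer (S : NilProd A B) (hodd : ¬ 2 ∣ Nat.card A) {p : ℕ}
    [hp : Fact p.Prime] (hpA : p ∣ Nat.card A) {d : G} (hd : d ∈ A) (hdo : orderOf d = p) :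
    Subgroup.centralizer ({d} : Set G) ≤ Subgroup.normalizer (A : Set G) := by
  obtain ⟨zp, hzp, hzpo⟩ := exists_orderOf_eq_mem_centerOf S.nilA hpA
  by_cases hex : ∃ a ∈ A, ∃ s ∈ B, s ∈ Subgroup.normalizer (A : Set G) ∧ s ≠ 1 ∧
      s * (a * d * a⁻¹) = a * d * a⁻¹ * s
  · obtain ⟨a, ha, s, hs, hsA, hs1, hcomm⟩ := hex
    have hd' : a * d * a⁻¹ ∈ A := A.mul_mem (A.mul_mem ha hd) (A.inv_mem ha)
    have hdB : a * d * a⁻¹ ∈ Subgroup.normalizer (B : Set G) :=
      S.centralizer_le_of_mem_normalizer hs hsA hs1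
        (Subgroup.mem_centralizer_singleton_iff.2 hcomm.symm)
    have hd1 : a * d * a⁻¹ ≠ 1 := fun h => by
      rw [conj_eq_one_iff] at h
      rw [h, orderOf_one] at hdo
      exact hp.out.ne_one hdo.symm
    intro g hg
    have h1 := S.swap.centralizer_le_of_mem_normalizer hd' hdB hd1
      (show a * g * a⁻¹ ∈ Subgroup.centralizer ({a * d * a⁻¹} : Set G) from
        Subgroup.mem_centralizer_singleton_iff.2 (by
          have hg' := Subgroup.mem_centralizer_singleton_iff.1 hg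
          calc a * g * a⁻¹ * (a * d * a⁻¹) = a * (g * d) * a⁻¹ := by group
            _ = a * (d * g) * a⁻¹ := by rw [hg']
            _ = a * d * a⁻¹ * (a * g * a⁻¹) := by group))
    have haN : a ∈ Subgroup.normalizer (A : Set G) := Subgroup.le_normalizer ha
    have := mul_mem (mul_mem (inv_mem haN) h1) haN
    simpa [mul_assoc] using this
  push Not at hex
  obtain ⟨r, hr, hrp, hrA⟩ := S.twoA p
  haveI := Fact.mk hr
  have hr2 : r ≠ 2 := fun h => hodd (h ▸ hrA)
  let X := Subgroup.centralizer ({d} : Set G)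
  let M := Subgroup.normalizer (A : Set G)
  have hzX : zp ∈ X := Subgroup.mem_centralizer_singleton_iff.2
    (Subgroup.mem_centralizer_iff.1 (le_centralizer_centerOf A hd) zp hzp)
  have hXM : X ⊓ M ≤ A := by
    refine S.le_of_primes (fun q hq hqd => ?_) hzp hzpo
      ⟨hzX, Subgroup.le_normalizer (centerOf_le A hzp)⟩
    by_contra hqA
    haveI := Fact.mk hq
    obtain ⟨x, hx⟩ := exists_prime_orderOf_dvd_card' (G := (X ⊓ M : Subgroup G)) q hqd
    have hqB : q ∣ Nat.card B :=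
      ((S.prime_cases hq (hqd.trans (Subgroup.card_subgroup_dvd_card _))).resolve_left
        fun h => hqA h.1).1
    haveI := S.nilB
    have hf : IsFactor (A.subgroupOf M) (B.subgroupOf M) :=
      IsFactor.subgroupOf S.fac Subgroup.le_normalizer
    have hBn : Group.IsNilpotent (B.subgroupOf M) := by
      haveI : Group.IsNilpotent (B ⊓ M : Subgroup G) :=
        CfsgLib.Cores.isNilpotent_of_le S.nilB inf_le_left
      exact Group.nilpotent_of_mulEquiv ((Subgroup.subgroupOfEquivOfLe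
        (inf_le_right : B ⊓ M ≤ M)).symm.trans
          (MulEquiv.subgroupCongr (Subgroup.inf_subgroupOf_right B M)))
    have hd1 : ∀ C : Subgroup G, Nat.card (C.subgroupOf M) ∣ Nat.card C := fun C => by
      rw [← Subgroup.card_map_of_injective (K := C.subgroupOf M) M.subtype_injective,
        Subgroup.subgroupOf_map_subtype]
      exact Subgroup.card_dvd_of_le inf_le_left
    have hcop : (Nat.card (B.subgroupOf M)).Coprime (Nat.card (A.subgroupOf M)) :=
      (S.cop.symm.coprime_dvd_left (hd1 B)).coprime_dvd_right (hd1 A)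
    have hci : (B.subgroupOf M).index = Nat.card (A.subgroupOf M) := by
      refine Nat.mul_left_cancel (Nat.card_pos (α := B.subgroupOf M)) ?_
      rw [Subgroup.card_mul_index]
      have h := hf.swap.card_eq
      rwa [inf_eq_bot_of_coprime_card hcop, Subgroup.card_bot, mul_one] at h
    let x' : M := ⟨x, x.2.2⟩
    have hx'o : orderOf x' = q := by rw [Subgroup.orderOf_mk, Subgroup.orderOf_coe, hx]
    obtain ⟨m, hm⟩ := Cfsg.Agent.S0581.result (B.subgroupOf M) (Subgroup.zpowers x') hBn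
      (hci ▸ hcop) (fun l hl hld => by
        rw [Nat.card_zpowers, hx'o] at hld
        obtain rfl := (Nat.prime_dvd_prime_iff_eq hl hq).1 hld
        have hdd : l ∣ Nat.card M :=
          hqd.trans (Subgroup.card_dvd_of_le (inf_le_right : X ⊓ M ≤ M))
        rw [← (B.subgroupOf M).card_mul_index, hci] at hdd
        exact (hl.dvd_mul.1 hdd).resolve_right fun h => hqA (h.trans (hd1 A)))
    obtain ⟨a, ha, b, hb, hmab⟩ := hf m
    rw [hmab, map_mul, mul_smul, conj_smul_of_mem hb] at hm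
    have hs := mem_conj_smul_iff.1 (hm (Subgroup.mem_zpowers x'))
    rw [Subgroup.mem_subgroupOf] at hs ha
    change (a : G)⁻¹ * (x : G) * (a : G) ∈ B at hs
    have hs1 : (a : G)⁻¹ * (x : G) * (a : G) ≠ 1 := fun h => by
      have hx1 : (x : G) = 1 := by
        calc (x : G) = (a : G) * ((a : G)⁻¹ * (x : G) * (a : G)) * (a : G)⁻¹ := by group
          _ = 1 := by rw [h]; group
      rw [← Subgroup.orderOf_coe, hx1, orderOf_one] at hx
      exact hq.ne_one hx.symm
    have haN : (a : G) ∈ M := a.2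
    refine hex (a : G)⁻¹ (A.inv_mem ha) _ hs (mul_mem (mul_mem (inv_mem haN) x.2.2) haN) hs1 ?_
    have hxd : (x : G) * d = d * (x : G) := Subgroup.mem_centralizer_singleton_iff.1 x.2.1
    calc (a : G)⁻¹ * (x : G) * (a : G) * ((a : G)⁻¹ * d * (a : G)⁻¹⁻¹)
        = (a : G)⁻¹ * ((x : G) * d) * (a : G) := by group
      _ = (a : G)⁻¹ * (d * (x : G)) * (a : G) := by rw [hxd]
      _ = (a : G)⁻¹ * d * (a : G)⁻¹⁻¹ * ((a : G)⁻¹ * (x : G) * (a : G)) := by group
  -- a normal `r`-complement in `X`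
  let R := primePart r A
  have hRX : R ≤ X := fun w hw => by
    obtain ⟨j, hj⟩ := IsPGroup.iff_orderOf.1 (isPGroup_primePart r A) ⟨w, hw⟩
    rw [Subgroup.orderOf_mk] at hj
    refine Subgroup.mem_centralizer_singleton_iff.2 (commute_primeCompl S.nilA hd (k := 1)
      (by rw [hdo, pow_one]) (mem_primeCompl S.nilA (primePart_le r A hw) ?_)).symm
    rw [hj]
    exact ((Nat.coprime_primes hr hp.out).2 hrp).pow_left j
  have hri : ¬ r ∣ R.index := not_dvd_index_primePart S.nilA (by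
    rw [S.index_eq]
    exact fun h => hr.not_dvd_one (S.cop.gcd_eq_one ▸ Nat.dvd_gcd hrA h))
  let P : Sylow r X := IsPGroup.toSylow (P := R.subgroupOf X)
    (isPGroup_primePart r A).comap_subtype
    fun h => hri (h.trans (Dvd.intro _ (Subgroup.relIndex_mul_index hRX)))
  have hPR : (P : Subgroup X).map X.subtype = R := Subgroup.map_subgroupOf_eq_of_le hRX
  obtain ⟨zr, hzr, hzro⟩ := exists_orderOf_eq_mem_centerOf S.nilA hrA
  have hzr1 : zr ≠ 1 := fun h => by rw [h, orderOf_one] at hzro; exact hr.ne_one hzro.symm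
  have hzrR : zr ∈ R := mem_primePart S.nilA (k := 1) (centerOf_le A hzr) (by rw [hzro, pow_one])
  have hnil : ∀ H : Subgroup X, H.map X.subtype ≤ A → HasNormalPComplement r H := by
    intro H hH
    haveI := S.nilA
    haveI : Group.IsNilpotent (H.map X.subtype) := CfsgLib.Cores.isNilpotent_of_le S.nilA hH
    haveI : Group.IsNilpotent H :=
      Group.nilpotent_of_mulEquiv (Subgroup.equivMapOfInjective H _ X.subtype_injective).symm
    exact CfsgLib.NormalPComplement.hasNormalPComplement_of_forall_mem fun g hg =>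
      mem_pPrimeCore_of_isNilpotent hg
  have hcompl : HasNormalPComplement r X := by
    refine CfsgLib.NormalPComplement.hasNormalPComplement_of_thompson hr2 P (hnil _ ?_) (hnil _ ?_)
    · let J := Cfsg.thompsonSubgroupOf r R
      have hJne : J ≠ ⊥ := CfsgLib.ThompsonJ.thompsonSubgroupOf_ne_bot
        (CfsgLib.NormalPComplement.dvd_card_of_ne_bot (isPGroup_primePart r A)
          fun h => hzr1 (Subgroup.mem_bot.1 (h ▸ hzrR : zr ∈ (⊥ : Subgroup G))))
      have hJA : A ≤ Subgroup.normalizer (J : Set G) := (le_normalizer_primePart r A).trans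
        (CfsgLib.ThompsonJ.normalizer_le_normalizer_thompsonSubgroupOf r R)
      have hJs : Group.IsSolvable J := by
        haveI : Group.IsNilpotent J := ((isPGroup_primePart r A).to_le
          (CfsgLib.ThompsonJ.thompsonSubgroupOf_le r R)).isNilpotent
        infer_instance
      have hJM := S.le_normalizer_of_solvable
        (S.solvable_of_le (S.normalizer_ne_top hJs hJne) hJA) hJA
      rintro _ ⟨w, hw, rfl⟩
      refine hXM ⟨w.2, hJM ?_⟩
      simp only [J]
      rw [← hPR, ← CfsgLib.ThompsonJ.map_thompsonSubgroupOf X.subtype_injective]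
      exact Subgroup.le_normalizer_map X.subtype ⟨w, hw, rfl⟩
    · rintro _ ⟨w, hw, rfl⟩
      have hzP : (⟨zr, hRX hzrR⟩ : X) ∈
          (P : Subgroup X) ⊓ Subgroup.centralizer ((P : Subgroup X) : Set X) :=
        ⟨hzrR, Subgroup.mem_centralizer_iff.2 fun v hv => Subtype.ext
          (Subgroup.mem_centralizer_iff.1 (le_centralizer_centerOf A (primePart_le r A hv)) zr
            hzr).symm⟩
      exact S.centralizer_le_of_mem_center hzr hzr1 (Subgroup.mem_centralizer_singleton_iff.2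
        (congrArg Subtype.val (Subgroup.mem_centralizer_iff.1 hw _ hzP)).symm)
  let K := Cfsg.pPrimeCore r X
  haveI hKn : K.Normal := inferInstance
  have hX : ∀ q : ℕ, q.Prime → q ∣ Nat.card X → q ∣ Nat.card A := by
    intro q hq hqd
    rw [← (CfsgLib.NormalPComplement.isComplement'_pPrimeCore hcompl P).card_mul_card] at hqd
    rcases hq.dvd_mul.1 hqd with h | h
    · by_contra hqA
      haveI := Fact.mk hq
      have hKX : R ≤ Subgroup.normalizer (K.map X.subtype : Set G) :=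
        hRX.trans (le_normalizer_of_characteristic X _)
      have hcopK : (Nat.card R).Coprime (Nat.card (K.map X.subtype)) := by
        rw [Subgroup.card_map_of_injective X.subtype_injective]
        obtain ⟨j, hj⟩ := IsPGroup.iff_card.1 (isPGroup_primePart r A)
        rw [hj]
        exact (CfsgLib.Cores.card_pPrimeCore_coprime r).symm.pow_left j
      obtain ⟨Q, hQ⟩ := CfsgLib.CoprimeAction.exists_invariant_sylow hKX hcopK (Or.inl (by
        haveI : Group.IsNilpotent R := (isPGroup_primePart r A).isNilpotent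
        infer_instance)) q
      obtain ⟨h1, h2, h3⟩ := zpowers_centerOf hzr hzr1
      have hQb := S.eq_bot_of_invariant (U := (Q : Subgroup _).map (K.map X.subtype).subtype)
        (fun l hl hld => by
          have h4 : l ∣ Nat.card G := hld.trans (Subgroup.card_subgroup_dvd_card _)
          obtain ⟨j, hj⟩ := IsPGroup.iff_card.1 (Q.isPGroup'.map (K.map X.subtype).subtype)
          rw [hj] at hld
          obtain rfl := (Nat.prime_dvd_prime_iff_eq hl hq).1 (hl.dvd_of_dvd_pow hld)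
          exact ((S.prime_cases hl h4).resolve_left fun h => hqA h.1).1)
        h1 h2 h3 ((Subgroup.zpowers_le.2 hzrR).trans hQ)
      exact Q.ne_bot_of_dvd_card (by rwa [Subgroup.card_map_of_injective X.subtype_injective])
        ((Subgroup.map_eq_bot_iff_of_injective _ (K.map X.subtype).subtype_injective).1 hQb)
    · have h5 : q ∣ Nat.card R := by
        rwa [← hPR, Subgroup.card_map_of_injective X.subtype_injective]
      exact h5.trans (Subgroup.card_dvd_of_le (primePart_le r A))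
  exact (S.le_of_primes hX hzp hzpo hzX).trans Subgroup.le_normalizer

/-- In odd order, `A` acts semiregularly off its fixed coset, so `|A| < |B|`. -/
theorem card_lt (S : NilProd A B) (hodd : ¬ 2 ∣ Nat.card A) : Nat.card A < Nat.card B := by
  let M := Subgroup.normalizer (A : Set G)
  have hMne : M ≠ ⊤ := S.normalizer_ne_top (by haveI := S.nilA; infer_instance) S.A_ne_bot
  obtain ⟨g, -, hg⟩ := SetLike.exists_of_lt hMne.lt_top
  obtain ⟨p₀, hp₀, -, hp₀A⟩ := S.twoA 0
  haveI := Fact.mk hp₀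
  obtain ⟨z, hz, hzo⟩ := exists_orderOf_eq_mem_centerOf S.nilA hp₀A
  have hMA : ∀ x ∈ M, (∀ q : ℕ, q.Prime → q ∣ orderOf x → q ∣ Nat.card A) → x ∈ A := by
    intro x hx hq
    refine (le_sup_right : Subgroup.zpowers x ≤ Subgroup.zpowers z ⊔ Subgroup.zpowers x).trans ?_
      (Subgroup.mem_zpowers x)
    refine (sup_le_sup_right (Subgroup.zpowers_le.2 (centerOf_le A hz)) _).trans ?_
    refine S.le_of_primes (fun q hq' hqd => ?_) hz hzo (Subgroup.mem_sup_left (centerOf_le A hz))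
    have h1 : Nat.card (A ⊔ Subgroup.zpowers x : Subgroup G) ∣ Nat.card A * orderOf x := by
      rw [← Nat.card_zpowers, ← card_mul_mul_card_inf,
        ← Subgroup.coe_mul_of_right_le_normalizer_left A (Subgroup.zpowers x)
          (Subgroup.zpowers_le.2 hx)]
      exact Dvd.intro _ rfl
    exact (hq'.dvd_mul.1 (hqd.trans h1)).elim id (hq q hq')
  -- the points `a g M` are distinct and differ from `M`
  have hfree : ∀ a ∈ A, a ≠ 1 → g⁻¹ * a * g ∉ M := by
    intro a ha ha1 hmem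
    obtain ⟨p, hp, hpd⟩ := Nat.exists_prime_and_dvd (mt orderOf_eq_one_iff.1 ha1)
    haveI := Fact.mk hp
    have hpA : p ∣ Nat.card A := hpd.trans (Subgroup.orderOf_dvd_natCard A ha)
    have hdo : orderOf (a ^ (orderOf a / p)) = p := orderOf_pow_orderOf_div (orderOf_pos a).ne' hpd
    have hdA : a ^ (orderOf a / p) ∈ A := pow_mem ha _
    have hgd : g⁻¹ * a ^ (orderOf a / p) * g ∈ A := by
      have h1 : g⁻¹ * a * g ∈ A := hMA _ hmem fun q hq hqd => by
        rw [show g⁻¹ * a * g = MulAut.conj g⁻¹ a by simp, MulEquiv.orderOf_eq] at hqd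
        exact hqd.trans (Subgroup.orderOf_dvd_natCard A ha)
      rw [show g⁻¹ * a ^ (orderOf a / p) * g = (g⁻¹ * a * g) ^ (orderOf a / p) by
        simpa using (conj_pow (i := orderOf a / p) (a := g⁻¹) (b := a)).symm]
      exact pow_mem h1 _
    have hcomm : g * z * g⁻¹ ∈ Subgroup.centralizer ({a ^ (orderOf a / p)} : Set G) := by
      rw [Subgroup.mem_centralizer_singleton_iff]
      have h2 := Subgroup.mem_centralizer_iff.1 (le_centralizer_centerOf A hgd) z hz
      calc g * z * g⁻¹ * a ^ (orderOf a / p) = g * (z * (g⁻¹ * a ^ (orderOf a / p) * g)) * g⁻¹ := by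
            group
        _ = g * (g⁻¹ * a ^ (orderOf a / p) * g * z) * g⁻¹ := by rw [h2]
        _ = a ^ (orderOf a / p) * (g * z * g⁻¹) := by group
    have hgzA : g * z * g⁻¹ ∈ A := hMA _
      (S.centralizer_le_normalizer hodd hpA hdA hdo hcomm) fun q hq hqd => by
        rw [show g * z * g⁻¹ = MulAut.conj g z from rfl, MulEquiv.orderOf_eq, hzo] at hqd
        rwa [(Nat.prime_dvd_prime_iff_eq hq hp₀).1 hqd]
    exact hg (S.mem_normalizer_of_conj_mem hz hzo hgzA)
  let φ : Option A → G ⧸ M := fun o => o.elim ((1 : G) : G ⧸ M) fun a => (((a : G) * g : G) : G ⧸ M)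
  have hφ : Function.Injective φ := by
    have hne : ∀ a : A, (((a : G) * g : G) : G ⧸ M) ≠ ((1 : G) : G ⧸ M) := fun a h => by
      rw [QuotientGroup.eq, mul_one, inv_mem_iff] at h
      exact hg ((M.mul_mem_cancel_left (Subgroup.le_normalizer a.2)).1 h)
    rintro (_ | a) (_ | b) h
    · rfl
    · exact absurd h.symm (hne b)
    · exact absurd h (hne a)
    · by_contra hab
      have hab' : (a : G)⁻¹ * b ≠ 1 := fun h1 => hab
        (congrArg some (Subtype.ext (inv_mul_eq_one.1 h1)))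
      refine hfree _ (A.mul_mem (A.inv_mem a.2) b.2) hab' ?_
      have h2 := QuotientGroup.eq.1 h
      simpa [mul_assoc] using h2
  have h3 := Nat.card_le_card_of_injective φ hφ
  rw [Finite.card_option, ← Subgroup.index_eq_card] at h3
  have h4 : M.index ≤ Nat.card B := by
    rw [← S.index_eq]
    exact Nat.le_of_dvd (Nat.pos_of_ne_zero A.index_ne_zero_of_finite)
      (Subgroup.index_dvd_of_le Subgroup.le_normalizer)
  omega

/-- There is no minimal counterexample with coprime factors. -/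
theorem false_of_nilProd (S : NilProd A B) : False := by
  have h1 := S.card_lt S.swap.not_two_dvd
  have h2 := S.swap.card_lt S.not_two_dvd
  omega

end NilProd

end CfsgLib.PSolvable
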