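/-
The Kegel–Wielandt theorem: products of two nilpotent subgroups are solvable.
-/
import Mathlib
import Cfsg.Agent.Lib.PSolvable.KegelWielandt
import Cfsg.Agent.Lib.CharTheory.Burnside
import Cfsg.Agent.S0566

set_option autoImplicit false
set_option linter.style.haveILetI false

open scoped Pointwise commutatorElement

namespace CfsgLib.PSolvable

universe u

variable {G : Type u} [Group G] [Finite G]

/-- Kegel: a `p`-subgroup permuting with all conjugates of another one into `p`-groups centralizes
its normal closure when `O_p(G) = 1`. -/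
theorem le_centralizer_normalClosure_of_permute {p : ℕ} [Fact p.Prime] (hcore : Cfsg.pCore p G = ⊥)
    (Y : Subgroup G) : ∀ (n : ℕ) (X : Subgroup G), X.index = n → IsPGroup p X →
      (∀ g : G, ∃ S : Subgroup G, IsPGroup p S ∧
        (S : Set G) = (X : Set G) * ((MulAut.conj g • Y : Subgroup G) : Set G)) →
      X ≤ Subgroup.centralizer (Subgroup.normalClosure (Y : Set G) : Set G) := by
  intro n
  induction n using Nat.strong_induction_on with
  | _ n ih =>
    intro X hn hX h
    let W := Subgroup.normalClosure (Y : Set G)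
    by_cases hex : ∃ g : G, ∃ b ∈ (MulAut.conj g • Y : Subgroup G), MulAut.conj b • X ≠ X
    · obtain ⟨g, b, hb, hbX⟩ := hex
      let X' : Subgroup G := X ⊔ MulAut.conj b • X
      have hlt : X < X' := left_lt_sup.2 fun hle => hbX (Subgroup.eq_of_le_of_card_ge hle
        (Nat.card_congr (Subgroup.equivSMul (MulAut.conj b) X).toEquiv).le)
      obtain ⟨S₀, hS₀p, hS₀⟩ := h g
      have hX'S : X' ≤ S₀ := by
        have hXS : X ≤ S₀ := fun a ha => by
          rw [← SetLike.mem_coe, hS₀]; exact ⟨a, ha, 1, Subgroup.one_mem _, mul_one a⟩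
        have hbS : b ∈ S₀ := by
          rw [← SetLike.mem_coe, hS₀]; exact ⟨1, X.one_mem, b, hb, one_mul b⟩
        refine sup_le hXS fun y hy => ?_
        have h1 := S₀.mul_mem (S₀.mul_mem hbS (hXS (mem_conj_smul_iff.1 hy))) (S₀.inv_mem hbS)
        simpa [mul_assoc] using h1
      have hX'p : IsPGroup p X' := hS₀p.to_le hX'S
      have hperm : ∀ z : G, ∃ T : Subgroup G, IsPGroup p T ∧
          (T : Set G) = (X' : Set G) * ((MulAut.conj z • Y : Subgroup G) : Set G) := by
        intro z
        obtain ⟨S, hSp, hS⟩ := h z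
        obtain ⟨S', -, hS'⟩ := h (b⁻¹ * z)
        have hS'' : ((MulAut.conj b • S' : Subgroup G) : Set G) =
            ((MulAut.conj b • X : Subgroup G) : Set G) * ((MulAut.conj z • Y : Subgroup G) : Set G) := by
          have h2 : (MulAut.conj b • (MulAut.conj (b⁻¹ * z) • Y : Subgroup G)) = MulAut.conj z • Y := by
            rw [← mul_smul, ← map_mul, mul_inv_cancel_left]
          rw [Subgroup.coe_pointwise_smul, hS', ← h2, Subgroup.coe_pointwise_smul _ X,
            Subgroup.coe_pointwise_smul _ (MulAut.conj (b⁻¹ * z) • Y)]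
          exact Set.image_mul (MulAut.conj b)
        obtain ⟨T, hT⟩ := Cfsg.Agent.S0566.exists_sup_permute hS hS''
        refine ⟨T, ?_, hT⟩
        obtain ⟨i, hi⟩ := IsPGroup.iff_card.1 hX'p
        have hYp : IsPGroup p (MulAut.conj z • Y : Subgroup G) := hSp.to_le fun y hy => by
          rw [← SetLike.mem_coe, hS]; exact ⟨1, X.one_mem, y, hy, one_mul y⟩
        obtain ⟨j, hj⟩ := IsPGroup.iff_card.1 hYp
        have hd : Nat.card T ∣ p ^ (i + j) := by
          rw [pow_add, ← hi, ← hj, ← card_mul_mul_card_inf, ← hT]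
          exact Dvd.intro _ rfl
        obtain ⟨l, -, hl⟩ := (Nat.dvd_prime_pow Fact.out).1 hd
        exact IsPGroup.of_card hl
      exact hlt.le.trans (ih _ (hn ▸ Subgroup.index_strictAnti hlt) X' rfl hX'p hperm)
    push Not at hex
    -- now `W` normalizes `X`
    have hWX : W ≤ Subgroup.normalizer (X : Set G) := by
      change Subgroup.closure (Group.conjugatesOfSet (Y : Set G)) ≤ _
      rw [Subgroup.closure_le]
      intro g hg
      obtain ⟨y, hy, hc⟩ := Group.mem_conjugatesOfSet_iff.1 hg
      obtain ⟨x, rfl⟩ := isConj_iff.1 hc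
      exact CfsgLib.CoprimeAction.conj_smul_eq_self.1 (hex x (x * y * x⁻¹)
        (by rw [mem_conj_smul_iff]; simpa [mul_assoc] using hy))
    haveI hWn : W.Normal := inferInstance
    have hbot : X ⊓ W = ⊥ := by
      have hsub : (X ⊓ W).IsSubnormal := by
        refine Subgroup.IsSubnormal.step _ W inf_le_right hWn.isSubnormal ?_
        refine (Subgroup.normal_subgroupOf_iff_le_normalizer inf_le_right).2 fun w hw => ?_
        refine mem_normalizer_of_conj_le fun y hy => ?_
        rw [mem_conj_smul_iff] at hy
        refine ⟨?_, ?_⟩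
        · have := (Subgroup.mem_normalizer_iff.1 (hWX hw) _).1 hy.1
          simpa [mul_assoc] using this
        · have := W.mul_mem (W.mul_mem hw hy.2) (W.inv_mem hw)
          simpa [mul_assoc] using this
      exact le_bot_iff.1 (hcore ▸ CfsgLib.Cores.le_pCore_of_subnormal hsub (hX.to_le inf_le_left))
    intro x hx
    refine Subgroup.mem_centralizer_iff.2 fun w hw => ?_
    rw [← commutatorElement_eq_one_iff_mul_comm, ← Subgroup.mem_bot, ← hbot]
    refine ⟨?_, ?_⟩
    · have h1 := (Subgroup.mem_normalizer_iff.1 (hWX hw) x).1 hx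
      rw [commutatorElement_def]
      exact X.mul_mem h1 (X.inv_mem hx)
    · have h1 := hWn.conj_mem _ (W.inv_mem hw) x
      rw [commutatorElement_def, show w * x * w⁻¹ * x⁻¹ = w * (x * w⁻¹ * x⁻¹) by group]
      exact W.mul_mem hw h1

/-- In a product of nilpotent subgroups the products of their `p`-parts are `p`-groups, for all
conjugates. -/
theorem exists_primePart_permute {A B : Subgroup G} (hA : Group.IsNilpotent A)
    (hB : Group.IsNilpotent B) (hAB : IsFactor A B) (p : ℕ) [hp : Fact p.Prime] (g : G) :
    ∃ S : Subgroup G, IsPGroup p S ∧ (S : Set G) = (primePart p A : Set G) *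
      ((MulAut.conj g • primePart p B : Subgroup G) : Set G) := by
  let X := primePart p A
  let Y := primePart p B
  obtain ⟨P, hP⟩ := (isPGroup_primePart p A).exists_le_sylow
  obtain ⟨Q, hQ⟩ := (isPGroup_primePart p B).exists_le_sylow
  obtain ⟨c, hc⟩ := MulAction.exists_smul_eq G P Q
  obtain ⟨b, hb, a, ha, rfl⟩ := hAB.swap c
  let P₁ : Subgroup G := MulAut.conj a • (P : Subgroup G)
  have hfix : ∀ (C : Subgroup G) (x : G), x ∈ C →
      MulAut.conj x • primePart p C = primePart p C := fun C x hx =>
    CfsgLib.CoprimeAction.conj_smul_eq_self.2 (le_normalizer_primePart p C hx)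
  have hXP : X ≤ P₁ := by
    simp only [P₁, X]
    rw [← hfix A a ha]
    exact Subgroup.pointwise_smul_le_pointwise_smul_iff.2 hP
  have hYP : Y ≤ P₁ := by
    have h1 : (Q : Subgroup G) = MulAut.conj b • P₁ := by
      rw [← hc, Sylow.coe_subgroup_smul, ← mul_smul, ← map_mul]
    have h2 : Y ≤ MulAut.conj b • P₁ := h1 ▸ hQ
    rw [show Y = MulAut.conj b • Y from (hfix B b hb).symm] at h2
    exact Subgroup.pointwise_smul_le_pointwise_smul_iff.1 h2
  have hP₁c : Nat.card P₁ = p ^ (Nat.card G).factorization p := by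
    rw [Nat.card_congr (Subgroup.equivSMul (MulAut.conj a) (P : Subgroup G)).symm.toEquiv,
      P.card_eq_multiplicity]
  have hpart : ∀ C : Subgroup G, Group.IsNilpotent C →
      Nat.card (primePart p C) = p ^ (Nat.card C).factorization p := by
    intro C hC
    haveI := hC
    obtain ⟨S⟩ := (inferInstance : Nonempty (Sylow p C))
    haveI : (S : Subgroup C).Normal :=
      ((Group.isNilpotent_of_finite_tfae (G := C)).out 0 3 rfl rfl).1 hC p hp S
    rw [primePart, CfsgLib.Cores.pCore_eq_sylow_of_normal S,
      Subgroup.card_map_of_injective C.subtype_injective, S.card_eq_multiplicity]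
  -- `X Y = P₁`
  have heq : (X : Set G) * (Y : Set G) = (P₁ : Set G) := by
    have hsub : (X : Set G) * (Y : Set G) ⊆ P₁ := by
      rintro _ ⟨u, hu, v, hv, rfl⟩
      exact P₁.mul_mem (hXP hu) (hYP hv)
    refine Set.eq_of_subset_of_ncard_le hsub ?_
    rw [← Nat.card_coe_set_eq, ← Nat.card_coe_set_eq]
    refine Nat.le_of_mul_le_mul_right (c := Nat.card (X ⊓ Y : Subgroup G)) ?_ Nat.card_pos
    rw [card_mul_mul_card_inf, hpart A hA, hpart B hB, show Nat.card (P₁ : Set G) = Nat.card P₁ from rfl,
      hP₁c]
    obtain ⟨j, hj⟩ := IsPGroup.iff_card.1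
      ((isPGroup_primePart p A).to_le (inf_le_left : X ⊓ Y ≤ X))
    rw [hj, ← pow_add, ← pow_add]
    refine Nat.pow_le_pow_right hp.out.pos ?_
    have h1 := congrArg (fun m : ℕ => m.factorization p) hAB.card_eq
    simp only [Nat.factorization_mul Nat.card_pos.ne' Nat.card_pos.ne', Finsupp.add_apply] at h1
    have h2 : j ≤ (Nat.card (A ⊓ B : Subgroup G)).factorization p :=
      (hp.out.pow_dvd_iff_le_factorization Nat.card_pos.ne').1
        (hj ▸ Subgroup.card_dvd_of_le (inf_le_inf (primePart_le p A) (primePart_le p B)))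
    omega
  obtain ⟨a', ha', b', hb', rfl⟩ := hAB g
  refine ⟨MulAut.conj a' • P₁, IsPGroup.of_card (n := (Nat.card G).factorization p)
    ((Nat.card_congr (Subgroup.equivSMul (MulAut.conj a') P₁).symm.toEquiv).trans hP₁c), ?_⟩
  rw [map_mul, mul_smul, hfix B b' hb']
  conv_rhs => rw [← hfix A a' ha']
  rw [Subgroup.coe_pointwise_smul, ← heq, Subgroup.coe_pointwise_smul, Subgroup.coe_pointwise_smul]
  exact Set.image_mul (MulAut.conj a')

/-- The two factors of a minimal counterexample have coprime orders. -/
theorem coprime_of_no_solvable_normal {A B : Subgroup G} (hA : Group.IsNilpotent A)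
    (hB : Group.IsNilpotent B) (hAB : IsFactor A B)
    (hns : ∀ N : Subgroup G, N.Normal → Group.IsSolvable N → N = ⊥)
    (hquot : ∀ (N : Subgroup G) [N.Normal], N ≠ ⊥ → Group.IsSolvable (G ⧸ N)) :
    (Nat.card A).Coprime (Nat.card B) := by
  refine Nat.coprime_of_dvd fun p hp hpA hpB => ?_
  haveI := Fact.mk hp
  have hne : ∀ C : Subgroup G, Group.IsNilpotent C → p ∣ Nat.card C → primePart p C ≠ ⊥ := by
    intro C hC hd hb
    obtain ⟨x, hx⟩ := exists_prime_orderOf_dvd_card' (G := C) p hd
    have h1 : (x : G) ∈ primePart p C := mem_primePart hC (k := 1) x.2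
      (by rw [Subgroup.orderOf_coe, hx, pow_one])
    rw [hb, Subgroup.mem_bot] at h1
    rw [show x = 1 from Subtype.ext h1, orderOf_one] at hx
    exact hp.ne_one hx.symm
  have hcore : Cfsg.pCore p G = ⊥ := hns _ inferInstance (by
    haveI : Group.IsNilpotent (Cfsg.pCore p G) := (CfsgLib.Cores.isPGroup_pCore p G).isNilpotent
    infer_instance)
  have hle := le_centralizer_normalClosure_of_permute hcore (primePart p B) _ (primePart p A) rfl
    (isPGroup_primePart p A) (exists_primePart_permute hA hB hAB p)
  let W := Subgroup.normalClosure (primePart p B : Set G)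
  let C := Subgroup.centralizer (W : Set G)
  have hWne : W ≠ ⊥ := fun h => hne B hB hpB (le_bot_iff.1 (h ▸ Subgroup.le_normalClosure))
  haveI hCn : C.Normal := Subgroup.normal_centralizer
  have hCW : C ⊓ W = ⊥ := by
    haveI : IsMulCommutative (C ⊓ W : Subgroup G) := ⟨⟨fun x y => Subtype.ext
      (Subgroup.mem_centralizer_iff.1 y.2.1 x x.2.2)⟩⟩
    exact hns _ inferInstance (CfsgLib.CoprimeAction.isSolvable_of_isMulCommutative _)
  have hinj : Function.Injective ((QuotientGroup.mk' W).comp C.subtype) := by
    rw [injective_iff_map_eq_one]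
    intro c hc
    have : (c : G) ∈ C ⊓ W := ⟨c.2, (QuotientGroup.eq_one_iff _).1 hc⟩
    rw [hCW, Subgroup.mem_bot] at this
    exact Subtype.ext this
  haveI := hquot W hWne
  have hCb : C = ⊥ := hns C hCn (Group.isSolvable_of_isSolvable_injective hinj)
  exact hne A hA hpA (le_bot_iff.1 (hCb ▸ hle))

/-- **Kegel–Wielandt**: a finite group which is the product of two nilpotent subgroups is
solvable. -/
theorem isSolvable_of_nilpotent_factors {A B : Subgroup G} (hA : Group.IsNilpotent A)
    (hB : Group.IsNilpotent B) (hAB : IsFactor A B) : Group.IsSolvable G := by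
  suffices ∀ (n : ℕ) (G : Type u) [Group G] [Finite G], Nat.card G = n → ∀ A B : Subgroup G,
      Group.IsNilpotent A → Group.IsNilpotent B → IsFactor A B → Group.IsSolvable G from
    this _ G rfl A B hA hB hAB
  intro n
  induction n using Nat.strong_induction_on with
  | _ n ih =>
    intro G _ _ hn A B hA hB hAB
    by_contra hns
    have hquot : ∀ (N : Subgroup G) [N.Normal], N ≠ ⊥ → Group.IsSolvable (G ⧸ N) := by
      intro N _ hN
      have hlt : Nat.card (G ⧸ N) < n := by
        rw [← hn, Subgroup.card_eq_card_quotient_mul_card_subgroup N]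
        exact lt_mul_of_one_lt_right Nat.card_pos ((Subgroup.one_lt_card_iff_ne_bot N).mpr hN)
      let π := QuotientGroup.mk' N
      haveI := hA
      haveI := hB
      exact ih _ hlt _ rfl (A.map π) (B.map π)
        (Group.nilpotent_of_surjective (π.subgroupMap A) (π.subgroupMap_surjective A))
        (Group.nilpotent_of_surjective (π.subgroupMap B) (π.subgroupMap_surjective B))
        (hAB.map (QuotientGroup.mk'_surjective N))
    have hnoSolv : ∀ N : Subgroup G, N.Normal → Group.IsSolvable N → N = ⊥ := by
      intro N hNn hNs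
      by_contra hne
      haveI := hquot N hne
      exact hns (Group.isSolvable_of_ker_le_range N.subtype (QuotientGroup.mk' N)
        (by rw [QuotientGroup.ker_mk', Subgroup.range_subtype]))
    have hfac : ∀ X : Subgroup G, X ≠ ⊤ → (∀ g ∈ X, ∃ a ∈ A ⊓ X, ∃ b ∈ B ⊓ X, g = a * b) →
        Group.IsSolvable X := by
      intro X hX h
      have hlt : Nat.card X < n := by
        rw [← hn]
        exact lt_of_le_of_ne (Subgroup.card_le_card_group _)
          fun he => hX (Subgroup.eq_top_of_card_eq _ he)
      have hn' : ∀ C : Subgroup G, Group.IsNilpotent C → Group.IsNilpotent (C.subgroupOf X) := by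
        intro C hC
        haveI : Group.IsNilpotent (C ⊓ X : Subgroup G) :=
          CfsgLib.Cores.isNilpotent_of_le hC inf_le_left
        exact Group.nilpotent_of_mulEquiv ((Subgroup.subgroupOfEquivOfLe
          (inf_le_right : C ⊓ X ≤ X)).symm.trans
            (MulEquiv.subgroupCongr (Subgroup.inf_subgroupOf_right C X)))
      refine ih _ hlt X rfl _ _ (hn' A hA) (hn' B hB) fun g => ?_
      obtain ⟨a, ha, b, hb, he⟩ := h g g.2
      exact ⟨⟨a, ha.2⟩, ha.1, ⟨b, hb.2⟩, hb.1, Subtype.ext he⟩
    have hcop := coprime_of_no_solvable_normal hA hB hAB hnoSolv hquot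
    -- neither factor is a group of prime power order
    have key : ∀ A B : Subgroup G, Group.IsNilpotent A → Group.IsNilpotent B → IsFactor A B →
        (Nat.card A).Coprime (Nat.card B) →
        (∀ X : Subgroup G, X ≠ ⊤ → (∀ g ∈ X, ∃ a ∈ A ⊓ X, ∃ b ∈ B ⊓ X, g = a * b) →
          Group.IsSolvable X) →
        ∀ p : ℕ, ∃ r, r.Prime ∧ r ≠ p ∧ r ∣ Nat.card A := by
      intro A B hA hB hAB hcop hfac p
      by_contra hcon
      push Not at hcon
      haveI := hA
      haveI := hB
      by_cases hA1 : A = ⊥
      · refine hns ?_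
        have hB' : B = ⊤ := by rw [← hAB.sup_eq_top, hA1, bot_sup_eq]
        haveI : Group.IsNilpotent (⊤ : Subgroup G) := hB' ▸ hB
        haveI : Group.IsNilpotent G := Group.nilpotent_of_mulEquiv Subgroup.topEquiv
        infer_instance
      obtain ⟨r, hr, hrd⟩ := Nat.exists_prime_and_dvd (mt Subgroup.card_eq_one.1 hA1)
      have hrp : r = p := by_contra fun h => hcon r hr h hrd
      subst hrp
      have hAcard : Nat.card A = r ^ (Nat.card A).primeFactorsList.length :=
        Nat.eq_prime_pow_of_unique_prime_dvd Nat.card_pos.ne' fun {q} hq hqd =>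
          by_contra fun h => hcon q hq h hqd
      have hcard : Nat.card G = Nat.card A * Nat.card B := by
        rw [← hAB.card_eq, inf_eq_bot_of_coprime_card hcop, Subgroup.card_bot, mul_one]
      have htop : ∀ N : Subgroup G, N.Normal → N = ⊥ ∨ N = ⊤ := by
        intro N hN
        by_contra hcon'
        push Not at hcon'
        obtain ⟨hNb, hNt⟩ := hcon'
        haveI := hN
        by_cases hAN : A ⊔ N = ⊤
        · -- then `B ≤ N`
          have hBN : B ≤ N := by
            intro b hb
            rw [← QuotientGroup.eq_one_iff, ← orderOf_eq_one_iff]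
            refine Nat.dvd_one.1 (hcop.gcd_eq_one ▸ Nat.dvd_gcd ?_ ?_)
            · obtain ⟨a, ha, w, hw, haw⟩ := Subgroup.mem_sup_of_normal_right.1
                (hAN ▸ Subgroup.mem_top b : b ∈ A ⊔ N)
              rw [← haw, QuotientGroup.mk_mul, (QuotientGroup.eq_one_iff w).2 hw, mul_one]
              exact (orderOf_map_dvd (QuotientGroup.mk' N) a).trans
                (Subgroup.orderOf_dvd_natCard A ha)
            · exact (orderOf_map_dvd (QuotientGroup.mk' N) b).trans
                (Subgroup.orderOf_dvd_natCard B hb)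
          refine hNb (hnoSolv N hN (hfac N hNt fun g hg => ?_))
          obtain ⟨a, ha, b, hb, rfl⟩ := hAB g
          exact ⟨a, ⟨ha, (N.mul_mem_cancel_right (hBN hb)).1 hg⟩, b, ⟨hb, hBN hb⟩, rfl⟩
        · have h1 : Group.IsSolvable (A ⊔ N : Subgroup G) := hfac _ hAN fun g hg => by
            obtain ⟨a, ha, b, hb, rfl⟩ := hAB g
            exact ⟨a, ⟨ha, le_sup_left (b := N) ha⟩, b,
              ⟨hb, ((A ⊔ N).mul_mem_cancel_left (le_sup_left (b := N) ha)).1 hg⟩, rfl⟩
          haveI := h1
          exact hNb (hnoSolv N hN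
            (CfsgLib.CoprimeAction.isSolvable_of_le (le_sup_right : N ≤ A ⊔ N)))
      haveI : Nontrivial G := by
        by_contra h
        rw [not_nontrivial_iff_subsingleton] at h
        exact hns inferInstance
      haveI : IsSimpleGroup G := ⟨htop⟩
      have hB1 : B ≠ ⊥ := fun hb => hns (by
        have hA' : A = ⊤ := by rw [← hAB.sup_eq_top, hb, sup_bot_eq]
        haveI : Group.IsNilpotent (⊤ : Subgroup G) := hA' ▸ hA
        haveI : Group.IsNilpotent G := Group.nilpotent_of_mulEquiv Subgroup.topEquiv
        infer_instance)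
      haveI : Nontrivial B := (Subgroup.nontrivial_iff_ne_bot B).2 hB1
      obtain ⟨z, hz, hz1⟩ := (Subgroup.bot_or_exists_ne_one _).resolve_left
        (Group.IsNilpotent.center_ne_bot (G := B))
      have hidx : (Subgroup.centralizer ({(z : G)} : Set G)).index ∣ Nat.card A := by
        have hle : B ≤ Subgroup.centralizer ({(z : G)} : Set G) := fun b hb =>
          Subgroup.mem_centralizer_singleton_iff.2
            (congrArg Subtype.val (Subgroup.mem_center_iff.1 hz ⟨b, hb⟩))
        refine (Subgroup.index_dvd_of_le hle).trans (dvd_of_eq ?_)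
        refine Nat.mul_left_cancel (Nat.card_pos (α := B)) ?_
        rw [B.card_mul_index, hcard, mul_comm]
      obtain ⟨k, -, hk⟩ := (Nat.dvd_prime_pow hr).1 (hAcard ▸ hidx)
      have hprime := CfsgLib.CharTheory.prime_card_of_index_centralizer_pow r k hr (z : G)
        (fun h => hz1 (Subtype.ext h)) hk
      haveI := Fact.mk hprime
      haveI : IsCyclic G := isCyclic_of_prime_card rfl
      exact hns (Group.isSolvable_of_comm (IsCyclic.commGroup (α := G)).mul_comm)
    exact NilProd.false_of_nilProd (A := A) (B := B)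
      ⟨hA, hB, hcop, hAB, key A B hA hB hAB hcop hfac,
        key B A hB hA hAB.swap hcop.symm (fun X hX h => hfac X hX fun g hg => by
          obtain ⟨b, hb, a, ha, he⟩ := h g⁻¹ (inv_mem hg)
          exact ⟨a⁻¹, inv_mem ha, b⁻¹, inv_mem hb, by rw [← mul_inv_rev, ← he, inv_inv]⟩),
        hnoSolv, hquot, hfac⟩

end CfsgLib.PSolvable
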